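/-
The symplectic group as a group of isometries, and the members of the classes for it.
-/
import Mathlib
import Cfsg.Prelude.Def_GeometricClasses
import Cfsg.Agent.Aschbacher.Formed.Centre
import Cfsg.Agent.Aschbacher.Formed.Quad
import Cfsg.Agent.Aschbacher.Formed.Descent
import Cfsg.Agent.Lib.Forms.SympStd

set_option autoImplicit false
set_option linter.style.haveILetI false

namespace Cfsg.Agent.Aschbacher

open Matrix
open Cfsg.Geo

variable {F : Type*} [Field F] {m : ℕ}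

/-- The standard symplectic form as form data. -/
noncomputable def sympData (m : ℕ) (F : Type*) [Field F] : FormData (Fin m ⊕ Fin m) F where
  τ := RingEquiv.refl F
  T := Matrix.J (Fin m) F
  ε := -1
  invol _ := rfl
  isUnit := Matrix.isUnit_det_J (Fin m) F
  refl := by
    rw [show (Matrix.J (Fin m) F).map (RingEquiv.refl F) = Matrix.J (Fin m) F from Matrix.map_id _,
      Matrix.J_transpose, neg_one_smul]

lemma sympData_form : (sympData m F).form = Cfsg.sympForm m F := rfl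

lemma sympData_τ : (sympData m F).τ = RingEquiv.refl F := rfl

lemma sympData_self (v : Fin m ⊕ Fin m → F) : (sympData m F).form v v = 0 :=
  Cfsg.Agent.Forms.SympStd.sympForm_self v

lemma sympData_swap (u v : Fin m ⊕ Fin m → F) :
    (sympData m F).form v u = -(sympData m F).form u v :=
  Cfsg.Agent.Forms.SympStd.sympForm_swap u v

lemma mem_spGL {g : GL (Fin m ⊕ Fin m) F} :
    g ∈ Cfsg.spGL m F ↔ ∀ u v, (sympData m F).form ((g : Matrix _ _ F) *ᵥ u) ((g : Matrix _ _ F) *ᵥ v) =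
      (sympData m F).form u v := Iff.rfl

lemma spGL_le_sim : Cfsg.spGL m F ≤ (sympData m F).sim := fun g hg => ⟨1, fun u v => by
  rw [Units.val_one, one_mul]; exact mem_spGL.1 hg u v⟩

lemma scalars_le_sim (D : FormData (Fin m ⊕ Fin m) F) : scalars (Fin m ⊕ Fin m) F ≤ D.sim := by
  intro g hg
  obtain ⟨c, hc⟩ := (Cfsg.Geo.mem_scalars_iff g).1 hg
  refine ⟨c * Units.mk0 (D.τ c) ((map_ne_zero D.τ).2 c.ne_zero), fun u v => ?_⟩
  rw [hc, smul_mulVec', smul_mulVec', D.form_smul_left, D.form_smul_right, Units.val_mul, Units.val_mk0,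
    mul_assoc]

variable [Fintype F]

/-- The structures whose stabilisers, cut with Sp, are the members of the classes. -/
def IsSpMember (m : ℕ) (F : Type*) [Field F] [Fintype F] (M : Subgroup (GL (Fin m ⊕ Fin m) F)) : Prop :=
  let f := Cfsg.sympForm m F
  (∃ W : Submodule F (Fin m ⊕ Fin m → F), W ≠ ⊥ ∧ IsTotallySingularFor f W ∧ M = subspaceStabilizer W) ∨
  (∃ W : Submodule F (Fin m ⊕ Fin m → F), W ≠ ⊥ ∧ IsNondegenerateOn f W ∧ Module.finrank F W < m ∧
      M = subspaceStabilizer W) ∨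
  (∃ (t k : ℕ) (D : Fin t → Submodule F (Fin m ⊕ Fin m → F)), IsNondegenerateMDecomposition f k D ∧
      M = decompositionStabilizer D) ∨
  (∃ (D : Fin 2 → Submodule F (Fin m ⊕ Fin m → F)), Odd (Fintype.card F) ∧ IsMDecomposition m D ∧
      (∀ i, IsTotallySingularFor f (D i)) ∧ M = decompositionStabilizer D) ∨
  (∃ (F₀ : Subfield F) (r : ℕ) (P : GL (Fin m ⊕ Fin m) F) (ζ : F), r.Prime ∧
      Fintype.card F = Nat.card F₀ ^ r ∧ ζ ≠ 0 ∧ IsFormRationalStructure f F₀ ζ P ∧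
      M = subfieldSubgroup F₀ P) ∨
  (∃ (R : Subgroup (GL (Fin m ⊕ Fin m) F)) (p k : ℕ), IsSymplecticTypeGroup 2 R ∧
      ActsAbsolutelyIrreducibly (matrixSet R) ∧ R ≤ similarityGroup f ∧ p.Prime ∧ Odd p ∧
      Fintype.card F = p ∧ Nat.card R = 2 ^ (1 + 2 * k) ∧ Nat.card (Subgroup.center R) = 2 ∧
      IsOfMinusType k R ∧ 2 * m = 2 ^ k ∧ (∀ x ∈ R, x ^ 2 ∈ scalars (Fin m ⊕ Fin m) F) ∧
      (∀ x ∈ R, ∀ y ∈ R, x * y * x⁻¹ * y⁻¹ ∈ scalars (Fin m ⊕ Fin m) F) ∧ M = subgroupNormalizer R) ∨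
  (∃ Q : (Fin m ⊕ Fin m → F) → F, ¬ Odd (Fintype.card F) ∧ IsNondegenerateQuadraticForm Q ∧
      (∀ u v, QuadraticMap.polar Q u v = f u v) ∧ M = quadSimilarityGroup Q) ∨
  (∃ (r : ℕ) (K : Subalgebra F (Matrix (Fin m ⊕ Fin m) (Fin m ⊕ Fin m) F)), r.Prime ∧ IsFieldSubalgebra r K ∧
      IsSelfAdjointFor f K ∧ (∀ k ∈ K, ∀ v, f (k *ᵥ v) v = 0) ∧ M = subalgebraNormalizer K) ∨
  (∃ K : Subalgebra F (Matrix (Fin m ⊕ Fin m) (Fin m ⊕ Fin m) F), Odd (Fintype.card F) ∧
      IsFieldSubalgebra 2 K ∧ IsAdjointClosedFor f K ∧ ¬ IsSelfAdjointFor f K ∧ M = subalgebraNormalizer K) ∨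
  (∃ (n₁ n₂ : ℕ) (e : (Fin m ⊕ Fin m) ≃ Fin n₁ × Fin n₂) (P : GL (Fin m ⊕ Fin m) F)
      (f₁ : (Fin n₁ → F) → (Fin n₁ → F) → F) (f₂ : (Fin n₂ → F) → (Fin n₂ → F) → F),
      Odd (Fintype.card F) ∧ 3 ≤ n₂ ∧ IsSymplecticForm f₁ ∧ IsSymmetricForm f₂ ∧
      IsTensorFormStructure id f f₁ f₂ e P ∧ M = tensorProductSubgroup n₁ n₂ e P) ∨
  (∃ (k t : ℕ) (e : (Fin m ⊕ Fin m) ≃ (Fin t → Fin k)) (P : GL (Fin m ⊕ Fin m) F)
      (f₁ : (Fin k → F) → (Fin k → F) → F),
      Odd (Fintype.card F) ∧ Odd t ∧ 3 ≤ t ∧ ¬ (Fintype.card F = 3 ∧ k = 2) ∧ IsSymplecticForm f₁ ∧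
      IsTensorPowerFormStructure id f f₁ e P ∧ M = tensorWreathSubgroup k t e P)

lemma IsSpMember.inSymplecticClass {M : Subgroup (GL (Fin m ⊕ Fin m) F)} (h : IsSpMember m F M) :
    InSymplecticClass m F (M ⊓ Cfsg.spGL m F) := by
  unfold IsSpMember at h
  unfold InSymplecticClass InSymplecticPartialClass
  rcases h with ⟨W, h1, h2, rfl⟩ | ⟨W, h1, h2, h3, rfl⟩ | ⟨t, k, D, h1, rfl⟩ | ⟨D, h1, h2, h3, rfl⟩ |
    ⟨F₀, r, P, ζ, h1, h2, h3, h4, rfl⟩ | ⟨R, p, k, h1, h2, h3, h4, h5, h6, h7, h8, h9, -, -, -, rfl⟩ |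
    ⟨Q, h1, h2, h3, rfl⟩ | ⟨r, K, h1, h2, h3, h4, rfl⟩ | ⟨K, h1, h2, h3, h4, rfl⟩ |
    ⟨n₁, n₂, e, P, f₁, f₂, h1, h2, h3, h4, h5, rfl⟩ | ⟨k, t, e, P, f₁, h1, h2, h3, h4, h5, h6, rfl⟩
  · exact Or.inl (Or.inl ⟨W, h1, h2, rfl⟩)
  · exact Or.inl (Or.inr (Or.inl ⟨W, h1, h2, h3, rfl⟩))
  · exact Or.inl (Or.inr (Or.inr (Or.inl ⟨t, k, D, h1, rfl⟩)))
  · exact Or.inl (Or.inr (Or.inr (Or.inr (Or.inl ⟨D, h1, h2, h3, rfl⟩))))
  · exact Or.inl (Or.inr (Or.inr (Or.inr (Or.inr (Or.inl ⟨F₀, r, P, ζ, h1, h2, h3, h4, rfl⟩)))))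
  · exact Or.inl (Or.inr (Or.inr (Or.inr (Or.inr (Or.inr (Or.inl
      ⟨R, p, k, h1, h2, h3, h4, h5, h6, h7, h8, h9, rfl⟩))))))
  · exact Or.inl (Or.inr (Or.inr (Or.inr (Or.inr (Or.inr (Or.inr ⟨Q, h1, h2, h3, rfl⟩))))))
  · exact Or.inr (Or.inl ⟨r, K, h1, h2, h3, h4, rfl⟩)
  · exact Or.inr (Or.inr (Or.inl ⟨K, h1, h2, h3, h4, rfl⟩))
  · exact Or.inr (Or.inr (Or.inr (Or.inl ⟨n₁, n₂, e, P, f₁, f₂, h1, h2, h3, h4, h5, rfl⟩)))
  · exact Or.inr (Or.inr (Or.inr (Or.inr ⟨k, t, e, P, f₁, h1, h2, h3, h4, h5, h6, rfl⟩)))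

/-- `H` is contained in one of the structures. -/
def InSpClass (H : Subgroup (GL (Fin m ⊕ Fin m) F)) : Prop :=
  ∃ M : Subgroup (GL (Fin m ⊕ Fin m) F), IsSpMember m F M ∧ H ≤ M

variable {H : Subgroup (GL (Fin m ⊕ Fin m) F)}

lemma InSpClass.exists_inSymplecticClass (h : InSpClass H) (hH : H ≤ Cfsg.spGL m F) :
    ∃ M, InSymplecticClass m F M ∧ H ≤ M := by
  obtain ⟨M, hM, hle⟩ := h
  exact ⟨_, hM.inSymplecticClass, le_inf hle hH⟩

lemma inSpClass_decomposition (h : (sympData m F).HasNondegDecomposition H) : InSpClass H := by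
  obtain ⟨t, k, E, hE, hle⟩ := h
  exact ⟨_, Or.inr (Or.inr (Or.inl ⟨t, k, E, hE, rfl⟩)), hle⟩

lemma inSpClass_of_quad (h2 : (2 : F) = 0) {Q : (Fin m ⊕ Fin m → F) → F}
    (hQ : IsPolarised (sympData m F) Q) (hle : H ≤ quadSimilarityGroup Q) : InSpClass H :=
  ⟨_, Or.inr (Or.inr (Or.inr (Or.inr (Or.inr (Or.inr (Or.inl
    ⟨Q, fun h => odd_card_iff.1 h h2, hQ.1, hQ.2, rfl⟩)))))), hle⟩

lemma inSpClass_of_reducible (hm : 1 ≤ m) (hH : H ≤ Cfsg.spGL m F) (hred : ¬ Irred H) : InSpClass H := by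
  haveI : Nonempty (Fin m ⊕ Fin m) := ⟨Sum.inl ⟨0, hm⟩⟩
  rcases (sympData m F).reducible_cases (hH.trans spGL_le_sim) hred with
    ⟨W, h0, hts, hle⟩ | ⟨W, h0, hnd, hlt, hle⟩ | ⟨k, E, hk, hE, hle⟩
  · exact ⟨_, Or.inl ⟨W, h0, hts, rfl⟩, hle⟩
  · refine ⟨_, Or.inr (Or.inl ⟨W, h0, hnd, ?_, rfl⟩), hle⟩
    rw [Fintype.card_sum, Fintype.card_fin] at hlt
    omega
  · exact inSpClass_decomposition ⟨2, k, E, hE, hle⟩

lemma inSpClass_of_pair (hm : 1 ≤ m) (hH : H ≤ Cfsg.spGL m F)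
    (h : (sympData m F).HasSingularPair H) : InSpClass H := by
  obtain ⟨k, E, e, hE, hts, hle, hadj, hconj⟩ := h
  by_cases h2 : (2 : F) = 0
  · obtain ⟨Q, hQ, hQH⟩ := (sympData m F).exists_quad_of_half sympData_τ sympData_self h2
      (fun g hg => mem_spGL.1 (hH hg)) e hadj fun g hg => by
        rcases hconj g hg with h | h
        · exact ⟨0, by rw [h, zero_smul, add_zero]⟩
        · refine ⟨1, ?_⟩
          rw [h, one_smul, sub_eq_add_neg, add_comm]
          congr 1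
          rw [neg_eq_iff_add_eq_zero, ← two_smul F e, h2, zero_smul]
    exact inSpClass_of_quad h2 hQ hQH
  · have hk : k = m := by
      have h1 : Module.finrank F (⊤ : Submodule F (Fin m ⊕ Fin m → F)) = 2 * k := by
        have hcompl : IsCompl (E 0) (E 1) := by
          refine ⟨hE.indep.pairwiseDisjoint (show (0 : Fin 2) ≠ 1 by decide), codisjoint_iff.2 ?_⟩
          rw [← hE.iSup_eq_top, eq_comm]
          exact le_antisymm (iSup_le fun i => by fin_cases i <;> simp)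
            (sup_le (le_iSup E 0) (le_iSup E 1))
        have := Submodule.finrank_add_eq_of_isCompl hcompl
        rw [hE.finrank_eq, hE.finrank_eq] at this
        rw [finrank_top, ← this, two_mul]
      rw [finrank_top, Module.finrank_fintype_fun_eq_card, Fintype.card_sum, Fintype.card_fin] at h1
      omega
    subst hk
    exact ⟨_, Or.inr (Or.inr (Or.inr (Or.inl ⟨E, odd_card_iff.2 h2, hE, hts, rfl⟩))), hle⟩

/-- A field of matrices normalised by `H` puts `H` in a class. -/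
lemma inSpClass_of_field (hm : 1 ≤ m) (hH : H ≤ Cfsg.spGL m F)
    (h : (sympData m F).HasField H) : InSpClass H := by
  classical
  haveI : Nonempty (Fin m ⊕ Fin m) := ⟨Sum.inl ⟨0, hm⟩⟩
  obtain ⟨Z, hcomm, hinv, hadj, hconj, z₀, hz₀, hns⟩ := h
  set D := sympData m F with hD
  have hnorm : ∀ {K : Subalgebra F (Matrix (Fin m ⊕ Fin m) (Fin m ⊕ Fin m) F)},
      (∀ g ∈ H, ∀ x ∈ K, conjMat g x ∈ K) → H ≤ subalgebraNormalizer K := fun h g hg =>
    mem_subalgebraNormalizer (h g hg)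
  by_cases hsa : ∃ x ∈ Z, D.adj x = x ∧ ∀ c : F, x ≠ c • 1
  · obtain ⟨x, hx, hxa, hxns⟩ := hsa
    let L : Subalgebra F (Matrix (Fin m ⊕ Fin m) (Fin m ⊕ Fin m) F) :=
      { carrier := {y | y ∈ Z ∧ D.adj y = y}
        mul_mem' := fun {a b} ha hb => ⟨mul_mem ha.1 hb.1, by
          rw [D.adj_mul, ha.2, hb.2, hcomm b hb.1 a ha.1]⟩
        add_mem' := fun {a b} ha hb => ⟨add_mem ha.1 hb.1, by rw [D.adj_add, ha.2, hb.2]⟩
        algebraMap_mem' := fun c => ⟨Z.algebraMap_mem c, by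
          rw [Algebra.algebraMap_eq_smul_one, D.adj_scalar]; rfl⟩ }
    obtain ⟨r, K, hr, hK, hKL, hmem⟩ := exists_prime_subfield L
      (fun a ha b hb => hcomm a ha.1 b hb.1) (fun a ha ha0 => by
        obtain ⟨y, hy, hay⟩ := hinv a ha.1 ha0
        refine ⟨y, ⟨hy, ?_⟩, hay⟩
        have h1 : a * D.adj y = 1 := by
          rw [hcomm a ha.1 _ (hadj y hy)]
          have := congrArg D.adj hay
          rwa [D.adj_mul, ha.2, D.adj_one] at this
        calc D.adj y = y * a * D.adj y := by rw [hcomm y hy a ha.1, hay, one_mul]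
          _ = y := by rw [mul_assoc, h1, mul_one])
      (show x ∈ L from ⟨hx, hxa⟩) hxns
    have hsa' : IsSelfAdjointFor D.form K := fun k hk u v => by
      rw [D.form_mulVec_left, (hKL hk).2]
    refine ⟨_, Or.inr (Or.inr (Or.inr (Or.inr (Or.inr (Or.inr (Or.inr (Or.inl
      ⟨r, K, hr, hK, hsa', fun k hk v => ?_, rfl⟩))))))), hnorm fun g hg y hy => ?_⟩
    · show D.form (k *ᵥ v) v = 0
      have hskew : D.form (k *ᵥ v) v = -D.form (k *ᵥ v) v := by
        conv_lhs => rw [hsa' k hk, sympData_swap]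
      by_cases h2 : (2 : F) = 0
      · -- every element of K is a square
        obtain ⟨j, hj⟩ : ∃ j, Fintype.card F ^ r = 2 * j := by
          have heven : 2 ∣ Fintype.card F := by
            have := fun h => odd_card_iff.1 h h2
            exact (Nat.not_odd_iff_even.1 this).two_dvd
          exact dvd_pow heven hr.ne_zero
        have hsq : k = k ^ j * k ^ j := by
          rw [← pow_add, ← two_mul, ← hj]
          exact ((hmem k).1 hk).2.symm
        rw [hsq, ← Matrix.mulVec_mulVec, hsa' (k ^ j) (pow_mem hk j)]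
        exact sympData_self _
      · rw [eq_neg_iff_add_eq_zero, ← two_mul] at hskew
        exact (mul_eq_zero.1 hskew).resolve_left h2
    · rw [hmem] at hy ⊢
      exact ⟨⟨hconj g hg y hy.1.1, by rw [D.adj_conjMat (spGL_le_sim (hH hg)), hy.1.2]⟩,
        by rw [← map_pow, hy.2]⟩
  push Not at hsa
  have hnorm' : ∀ y ∈ Z, ∃ c : F, y + D.adj y = c • (1 : Matrix (Fin m ⊕ Fin m) (Fin m ⊕ Fin m) F) :=
    fun y hy => hsa _ (add_mem hy (hadj y hy)) (by rw [D.adj_add, D.adj_adj, add_comm])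
  have hδ0 : D.adj z₀ ≠ z₀ := fun h => by
    obtain ⟨c, hc⟩ := hsa z₀ hz₀ h
    exact hns c hc
  by_cases h2 : (2 : F) = 0
  · obtain ⟨s, hs⟩ := hnorm' z₀ hz₀
    have hneg : ∀ y : Matrix (Fin m ⊕ Fin m) (Fin m ⊕ Fin m) F, -y = y := fun y => by
      rw [neg_eq_iff_add_eq_zero, ← two_smul F y, h2, zero_smul]
    have hs0 : s ≠ 0 := by
      rintro rfl
      rw [zero_smul, add_comm, add_eq_zero_iff_eq_neg, hneg] at hs
      exact hδ0 hs
    have ha : D.adj (s⁻¹ • z₀) = 1 - s⁻¹ • z₀ := by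
      rw [D.adj_smul, eq_sub_iff_add_eq]
      show s⁻¹ • D.adj z₀ + _ = _
      rw [← smul_add, add_comm, hs, smul_smul, inv_mul_cancel₀ hs0, one_smul]
    obtain ⟨Q, hQ, hQH⟩ := D.exists_quad_of_half sympData_τ sympData_self h2
      (fun g hg => mem_spGL.1 (hH hg)) _ ha fun g hg => by
        set a := s⁻¹ • z₀ with ha'
        have haZ : a ∈ Z := Subalgebra.smul_mem _ hz₀ _
        have hd : D.adj (conjMat g a - a) = conjMat g a - a := by
          rw [D.adj_sub, D.adj_conjMat (spGL_le_sim (hH hg)), ha, map_sub, map_one, sub_sub_sub_cancel_left,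
            ← neg_sub, hneg]
        obtain ⟨c, hc⟩ := hsa _ (sub_mem (hconj g hg a haZ) haZ) hd
        exact ⟨c, by rw [← hc, add_sub_cancel]⟩
    exact inSpClass_of_quad h2 hQ hQH
  · -- a quadratic extension with conjugation as adjoint
    have hanti : ∀ y ∈ Z, D.adj (y - D.adj y) = -(y - D.adj y) := fun y _ => by
      rw [D.adj_sub, D.adj_adj, neg_sub]
    set d := z₀ - D.adj z₀ with hd
    have hdZ : d ∈ Z := sub_mem hz₀ (hadj _ hz₀)
    have hd0 : d ≠ 0 := sub_ne_zero.2 (Ne.symm hδ0)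
    have hspan : ∀ y ∈ Z, y ∈ Submodule.span F {(1 : Matrix (Fin m ⊕ Fin m) (Fin m ⊕ Fin m) F), d} := by
      intro y hy
      obtain ⟨w, hw, hdw⟩ := hinv d hdZ hd0
      set b := y - D.adj y with hb
      have hbZ : b ∈ Z := sub_mem hy (hadj _ hy)
      obtain ⟨c1, hc1⟩ := hsa _ (mul_mem hdZ hbZ) (by
        rw [D.adj_mul, hanti y hy, hanti z₀ hz₀, neg_mul_neg, hcomm _ hbZ _ hdZ])
      obtain ⟨c2, hc2⟩ := hsa _ (mul_mem hdZ hdZ) (by rw [D.adj_mul, hanti z₀ hz₀, neg_mul_neg])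
      have hc20 : c2 ≠ 0 := by
        rintro rfl
        rw [zero_smul] at hc2
        apply hd0
        calc d = d * (d * w) := by rw [hdw, mul_one]
          _ = 0 := by rw [← mul_assoc, hc2, zero_mul]
      have hb' : b = (c1 / c2) • d := by
        have h1 : c1 • d = c2 • b := by
          rw [← one_mul b, ← smul_mul_assoc, ← hc2, mul_assoc, hc1, Matrix.mul_smul, mul_one]
        rw [div_eq_inv_mul, ← smul_smul, h1, smul_smul, inv_mul_cancel₀ hc20, one_smul]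
      obtain ⟨c, hc⟩ := hnorm' y hy
      have hy2 : y = (2 : F)⁻¹ • (c • (1 : Matrix (Fin m ⊕ Fin m) (Fin m ⊕ Fin m) F) + (c1 / c2) • d) := by
        rw [← hc, ← hb', hb, add_add_sub_cancel, ← two_smul F y, smul_smul, inv_mul_cancel₀ h2, one_smul]
      rw [hy2]
      exact Submodule.smul_mem _ _ (add_mem (Submodule.smul_mem _ _ (Submodule.subset_span (by simp)))
        (Submodule.smul_mem _ _ (Submodule.subset_span (by simp))))
    have hfin : Module.finrank F Z = 2 := by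
      refine le_antisymm ?_ ?_
      · calc Module.finrank F Z = Module.finrank F (Subalgebra.toSubmodule Z) := rfl
          _ ≤ Module.finrank F (Submodule.span F
                {(1 : Matrix (Fin m ⊕ Fin m) (Fin m ⊕ Fin m) F), d}) := Submodule.finrank_mono hspan
          _ ≤ 2 := by
              rw [Submodule.span_insert]
              refine (Submodule.finrank_add_le_finrank_add_finrank _ _).trans ?_
              rw [finrank_span_singleton one_ne_zero, finrank_span_singleton hd0]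
      · by_contra hlt
        have h1 : Module.finrank F Z = 1 := by
          have : 0 < Module.finrank F Z := Module.finrank_pos
          omega
        have hbot := Subalgebra.eq_bot_of_finrank_one h1
        rw [hbot, Algebra.mem_bot] at hz₀
        obtain ⟨c, hc⟩ := hz₀
        exact hns c (by rw [← hc, Algebra.algebraMap_eq_smul_one])
    refine ⟨_, Or.inr (Or.inr (Or.inr (Or.inr (Or.inr (Or.inr (Or.inr (Or.inr (Or.inl
      ⟨Z, odd_card_iff.2 h2, ⟨hcomm, hinv, hfin⟩, fun k hk => ⟨D.adj k, hadj k hk, D.form_mulVec_left k⟩,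
        fun h => ?_, rfl⟩)))))))), hnorm hconj⟩
    exact hδ0 (D.eq_adj fun u v => h z₀ hz₀ u v).symm

/-- The three outcomes of Clifford theory. -/
lemma inSpClass_of_centre_cases (hm : 1 ≤ m) (hH : H ≤ Cfsg.spGL m F)
    (h : (sympData m F).HasNondegDecomposition H ∨ (sympData m F).HasSingularPair H ∨
      (sympData m F).HasField H) : InSpClass H := by
  rcases h with h | h | h
  · exact inSpClass_decomposition h
  · exact inSpClass_of_pair hm hH h
  · exact inSpClass_of_field hm hH h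

end Cfsg.Agent.Aschbacher
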