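/-
Commutative algebras of self-adjoint matrices for an alternating form are small.
-/
import Mathlib
import Cfsg.Agent.Aschbacher.Formed.Basic

set_option autoImplicit false
set_option linter.style.haveILetI false

namespace Cfsg.Agent.Aschbacher

open Matrix

variable {ι : Type} [Fintype ι] [DecidableEq ι] {F : Type*} [Field F] [Fintype F] [Nonempty ι]

/-- Commuting self-adjoint involutions of a non-degenerate alternating form in odd characteristic span
at most half the dimension. -/
theorem FormData.two_mul_finrank_le (D : FormData ι F) (hid : D.τ = RingEquiv.refl F)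
    (halt : ∀ v, D.form v v = 0) (h2 : (2 : F) ≠ 0) (hodd : Odd (Fintype.card F))
    (S : Set (Matrix ι ι F)) (hsq : ∀ x ∈ S, x * x = 1) (hcomm : ∀ x ∈ S, ∀ y ∈ S, x * y = y * x)
    (hadj : ∀ x ∈ S, D.adj x = x) :
    2 * Module.finrank F (Algebra.adjoin F S) ≤ Fintype.card ι := by
  classical
  set A := Algebra.adjoin F S with hA
  letI : CommRing A := Algebra.adjoinCommRingOfComm F (fun x hx y hy => hcomm x hx y hy)
  set q := Fintype.card F with hq
  have hqone : ∀ x : A, x ^ q = x := by
    intro x
    have hS : ∀ y ∈ S, y ^ q = y := fun y hy => by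
      obtain ⟨j, hj⟩ := hodd
      rw [show q = 2 * j + 1 from hj, pow_succ, pow_mul, pow_two, hsq y hy, one_pow, one_mul]
    have hle : A ≤ (AlgHom.equalizer (FiniteField.frobeniusAlgHom F A) (AlgHom.id F A)).map A.val := by
      refine Algebra.adjoin_le fun y hy => ⟨⟨y, Algebra.subset_adjoin hy⟩, ?_, rfl⟩
      show FiniteField.frobeniusAlgHom F A _ = _
      exact Subtype.ext (hS y hy)
    obtain ⟨w, hw, hwx⟩ := hle x.2
    have : w = x := Subtype.ext hwx
    rw [← this]
    exact hw
  have hsa : ∀ x ∈ A, D.adj x = x := by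
    intro x hx
    induction hx using Algebra.adjoin_induction with
    | mem y hy => exact hadj y hy
    | algebraMap c => rw [Algebra.algebraMap_eq_smul_one, D.adj_scalar, hid]; rfl
    | add y z _ _ hy hz => rw [D.adj_add, hy, hz]
    | mul y z hy' hz' hy hz =>
      rw [D.adj_mul, hy, hz]
      exact congrArg Subtype.val (mul_comm (⟨z, hz'⟩ : A) ⟨y, hy'⟩)
  have hswap : ∀ u v, D.form v u = -D.form u v := by
    intro u v
    have h := halt (u + v)
    rw [D.form_add_left, D.form_add_right, D.form_add_right, halt, halt, zero_add, add_zero] at h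
    exact eq_neg_of_add_eq_zero_right h
  have hnull : ∀ x ∈ A, ∀ v, D.form (x *ᵥ v) v = 0 := by
    intro x hx v
    have h1 : D.form (x *ᵥ v) v = -D.form (x *ᵥ v) v := by
      conv_lhs => rw [D.form_mulVec_left, hsa x hx, hswap]
    rw [eq_neg_iff_add_eq_zero, ← two_mul] at h1
    exact (mul_eq_zero.1 h1).resolve_left h2
  -- a vector with trivial annihilator
  obtain ⟨v, -, hv⟩ := Set.exists_min_image (Set.univ : Set (ι → F))
    (fun v => Nat.card {a : A // (a : Matrix ι ι F) *ᵥ v = 0}) Set.finite_univ Set.univ_nonempty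
  have hann : ∀ a : A, (a : Matrix ι ι F) *ᵥ v = 0 → a = 0 := by
    intro a ha
    by_contra ha0
    set e : A := a ^ (q - 1) with he
    have hq2 : 2 ≤ q := Fintype.one_lt_card
    have hea : e * a = a := by
      rw [he, ← pow_succ, Nat.sub_add_cancel (by omega)]
      exact hqone a
    have hee : e * e = e := by
      calc e * e = a ^ (q - 2) * a ^ q := by rw [he, ← pow_add, ← pow_add]; congr 1; omega
        _ = a ^ (q - 2) * a := by rw [hqone]
        _ = e := by rw [he, ← pow_succ]; congr 1; omega
    have hev : (e : Matrix ι ι F) *ᵥ v = 0 := by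
      have : e = a ^ (q - 2) * a := by rw [he, ← pow_succ]; congr 1; omega
      rw [this, Subalgebra.coe_mul, ← Matrix.mulVec_mulVec, ha, Matrix.mulVec_zero]
    have he0 : e ≠ 0 := fun h => ha0 (by rw [← hea, h, zero_mul])
    obtain ⟨u, hu⟩ : ∃ u, (e : Matrix ι ι F) *ᵥ u ≠ 0 := by
      by_contra hall
      push Not at hall
      exact he0 (Subtype.ext (Matrix.ext_iff_mulVec.2 fun u => by rw [hall]; simp))
    set v' := v + (e : Matrix ι ι F) *ᵥ u with hv'
    have key : ∀ s : A, (s : Matrix ι ι F) *ᵥ v' = 0 →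
        (s : Matrix ι ι F) *ᵥ v = 0 ∧ (s : Matrix ι ι F) *ᵥ ((e : Matrix ι ι F) *ᵥ u) = 0 := by
      intro s hs
      rw [hv', Matrix.mulVec_add] at hs
      have hse : (e : Matrix ι ι F) * (s : Matrix ι ι F) = (s : Matrix ι ι F) * (e : Matrix ι ι F) :=
        congrArg Subtype.val (mul_comm e s)
      have hee' : (e : Matrix ι ι F) * (e : Matrix ι ι F) = e := congrArg Subtype.val hee
      have h := congrArg (fun w => (e : Matrix ι ι F) *ᵥ w) hs
      simp only [Matrix.mulVec_add, Matrix.mulVec_zero, Matrix.mulVec_mulVec, ← mul_assoc] at h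
      rw [hse, mul_assoc, hee', ← Matrix.mulVec_mulVec _ (s : Matrix ι ι F), hev, Matrix.mulVec_zero,
        zero_add] at h
      rw [← Matrix.mulVec_mulVec] at h
      rw [h, add_zero] at hs
      exact ⟨hs, h⟩
    have hlt : Nat.card {s : A // (s : Matrix ι ι F) *ᵥ v' = 0} <
        Nat.card {s : A // (s : Matrix ι ι F) *ᵥ v = 0} := by
      have hsub : {s : A | (s : Matrix ι ι F) *ᵥ v' = 0} ⊂ {s : A | (s : Matrix ι ι F) *ᵥ v = 0} := by
        refine ⟨fun s hs => (key s hs).1, fun hsup => hu ?_⟩
        have h1 := (key e (hsup hev)).2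
        rwa [Matrix.mulVec_mulVec, show (e : Matrix ι ι F) * (e : Matrix ι ι F) = e from
          congrArg Subtype.val hee] at h1
      exact Set.ncard_lt_ncard hsub (Set.toFinite _)
    exact absurd (hv v' (Set.mem_univ _)) (not_le.2 hlt)
  let L : A →ₗ[F] (ι → F) :=
    { toFun := fun a => (a : Matrix ι ι F) *ᵥ v
      map_add' := fun a b => by rw [Subalgebra.coe_add, Matrix.add_mulVec]
      map_smul' := fun c a => by rw [Subalgebra.coe_smul, Matrix.smul_mulVec, RingHom.id_apply] }
  have hLinj : Function.Injective L := by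
    intro a b h
    rw [← sub_eq_zero]
    apply hann
    rw [Subalgebra.coe_sub, Matrix.sub_mulVec]
    exact sub_eq_zero.2 h
  have hW : LinearMap.range L ≤ D.perp (LinearMap.range L) := by
    rintro _ ⟨b, rfl⟩ _ ⟨a, rfl⟩
    show D.form ((a : Matrix ι ι F) *ᵥ v) ((b : Matrix ι ι F) *ᵥ v) = 0
    rw [← hsa _ b.2, ← D.form_mulVec_left, Matrix.mulVec_mulVec, ← Subalgebra.coe_mul]
    exact hnull _ (b * a).2 v
  have h1 := Submodule.finrank_mono hW
  have h3 := D.finrank_perp (LinearMap.range L)
  rw [LinearMap.finrank_range_of_inj hLinj] at h1 h3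
  omega

end Cfsg.Agent.Aschbacher
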