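/-
A minimal normal subgroup which is abelian modulo scalars, symplectic case.
-/
import Mathlib
import Cfsg.Agent.Aschbacher.Sp.Base
import Cfsg.Agent.Aschbacher.Sp.MinusType
import Cfsg.Agent.Aschbacher.Factors
import Cfsg.Agent.Aschbacher.FixedForms

set_option autoImplicit false
set_option linter.style.haveILetI false

namespace Cfsg.Agent.Aschbacher

open Matrix
open Cfsg.Geo

variable {F : Type*} [Field F] [Fintype F]

/-- Commutators in a group of exponent dividing an odd `r`, when they are scalars of square one. -/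
lemma commute_of_odd_exponent {G : Type*} [Group G] {x y z : G} {r : ℕ} (hr : Odd r)
    (hy : y ^ r = 1) (hz : ∀ g, g * z = z * g) (h : y * x = z * x * y) (hz2 : z ^ 2 = 1) : z = 1 := by
  have h1 := (mul_pow_of_central_commutator hz h r).2
  rw [hy, one_mul, mul_one] at h1
  have h3 : z ^ r = 1 := by
    have := mul_right_cancel (b := x) ((one_mul x).trans h1)
    exact this.symm
  obtain ⟨j, rfl⟩ := hr
  rwa [pow_succ, pow_mul, hz2, one_pow, one_mul] at h3

variable {m : ℕ}

/-- A minimal normal subgroup which is abelian modulo scalars: a subfield member or one of symplectic type. -/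
theorem abelian_member (hm : 1 ≤ m) {H N : Subgroup (GL (Fin m ⊕ Fin m) F)}
    (hH : H ≤ Cfsg.spGL m F) (hZN : scalars (Fin m ⊕ Fin m) F ≤ N)
    (hns : ¬ N ≤ scalars (Fin m ⊕ Fin m) F) (hNH : N ≤ H ⊔ scalars (Fin m ⊕ Fin m) F)
    (hnorm : ∀ g ∈ H, ∀ x ∈ N, g * x * g⁻¹ ∈ N)
    (htop : Algebra.adjoin F (matrixSet N) = ⊤)
    (hcomm : ∀ x ∈ N, ∀ y ∈ N, x * y * x⁻¹ * y⁻¹ ∈ scalars (Fin m ⊕ Fin m) F)
    (hmin : ∀ M : Subgroup (GL (Fin m ⊕ Fin m) F), scalars (Fin m ⊕ Fin m) F ≤ M → M ≤ N →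
      (∀ g ∈ H, ∀ x ∈ M, g * x * g⁻¹ ∈ M) → M = scalars (Fin m ⊕ Fin m) F ∨ M = N) :
    (¬ (Fintype.card F).Prime ∧ InSpClass H) ∨
      ∃ (R : Subgroup (GL (Fin m ⊕ Fin m) F)) (p k : ℕ), IsSymplecticTypeGroup 2 R ∧
        ActsAbsolutelyIrreducibly (matrixSet R) ∧ R ≤ similarityGroup (Cfsg.sympForm m F) ∧ p.Prime ∧ Odd p ∧
        Fintype.card F = p ∧ Nat.card R = 2 ^ (1 + 2 * k) ∧ Nat.card (Subgroup.center R) = 2 ∧
        IsOfMinusType k R ∧ 2 * m = 2 ^ k ∧ (∀ x ∈ R, x ^ 2 ∈ scalars (Fin m ⊕ Fin m) F) ∧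
        (∀ x ∈ R, ∀ y ∈ R, x * y * x⁻¹ * y⁻¹ ∈ scalars (Fin m ⊕ Fin m) F) ∧ H ≤ subgroupNormalizer R := by
  classical
  haveI : Nonempty (Fin m ⊕ Fin m) := ⟨Sum.inl ⟨0, hm⟩⟩
  set ι := Fin m ⊕ Fin m
  set D := sympData m F with hD
  set Z := scalars ι F with hZ
  set I := Cfsg.spGL m F with hI
  have hn2 : 2 ≤ Fintype.card ι := by rw [Fintype.card_sum, Fintype.card_fin]; omega
  obtain ⟨r, R, hd, hRN, hdec, hpow⟩ :=
    exists_symplecticData_of_minimal hn2 hZN hns hnorm htop hcomm hmin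
  have hsplit : ∀ x ∈ N, ∃ h ∈ N ⊓ I, ∃ z ∈ Z, x = h * z := by
    intro x hx
    obtain ⟨h, hh, z, hz, rfl⟩ := Subgroup.mem_sup_of_normal_right.1 (hNH hx)
    refine ⟨h, ⟨?_, hH hh⟩, z, hz, rfl⟩
    simpa using mul_mem hx (inv_mem (hZN hz))
  have hscalI : ∀ c : Fˣ, scalarUnit ι F c ∈ I → c ^ 2 = 1 := by
    intro c hc
    obtain ⟨v, hv⟩ := exists_ne (0 : ι → F)
    obtain ⟨x, hx⟩ := (D.nondegenerate v hv).1
    have h1 := mem_spGL.1 hc x v
    rw [scalarUnit_coe, smul_mulVec', smul_mulVec', D.form_smul_left, D.form_smul_right] at h1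
    apply Units.ext
    rw [Units.val_pow_eq_pow_val, Units.val_one, sq]
    apply mul_right_cancel₀ hx
    rw [one_mul, mul_assoc]
    exact h1
  have hcI : ∀ x ∈ N, ∀ y ∈ N, x * y * x⁻¹ * y⁻¹ ∈ I := by
    intro x hx y hy
    obtain ⟨h, hh, z, hz, rfl⟩ := hsplit x hx
    obtain ⟨k, hk, w, hw, rfl⟩ := hsplit y hy
    rw [← commutatorElement_def, show h * z = z * h from scalars_comm hz h,
      show k * w = w * k from scalars_comm hw k, commutator_central (scalars_comm hz) (scalars_comm hw)]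
    have hh' : h ∈ I := (Subgroup.mem_inf.1 hh).2
    have hk' : k ∈ I := (Subgroup.mem_inf.1 hk).2
    exact mul_mem (mul_mem (mul_mem hh' hk') (inv_mem hh')) (inv_mem hk')
  -- R is not abelian
  obtain ⟨x₁, hx₁, y₁, hy₁, hne⟩ : ∃ x ∈ R, ∃ y ∈ R, y * x ≠ x * y := by
    by_contra hall
    push Not at hall
    have habs := absIrred_of_adjoin_eq_top hd.adjoin_top
    have hbot : Algebra.adjoin F (matrixSet R) ≤ (⊥ : Subalgebra F (Matrix ι ι F)) := by
      refine Algebra.adjoin_le ?_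
      rintro _ ⟨x, hx, rfl⟩
      obtain ⟨c, hc⟩ := habs.2 (x : Matrix ι ι F) (by
        rintro _ ⟨y, hy, rfl⟩
        exact congrArg Units.val (hall y hy x hx))
      rw [SetLike.mem_coe, Algebra.mem_bot]
      exact ⟨c, (Algebra.algebraMap_eq_smul_one c).trans hc.symm⟩
    rw [hd.adjoin_top, top_le_iff] at hbot
    have h1 : Module.finrank F (⊥ : Subalgebra F (Matrix ι ι F)) = 1 := Subalgebra.finrank_bot
    rw [hbot] at h1
    have h3 : Module.finrank F (Matrix ι ι F) = 1 := by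
      rw [← h1]
      exact (Subalgebra.topEquiv.toLinearEquiv.finrank_eq).symm
    rw [Module.finrank_matrix, Module.finrank_self, mul_one] at h3
    have := Nat.eq_one_of_mul_eq_one_right h3
    omega
  have hr2 : r = 2 := by
    rcases hd.prime.eq_two_or_odd' with h | hodd
    · exact h
    exfalso
    obtain ⟨ζ, hζ⟩ := mem_scalars_iff_scalarUnit.1 (hcomm y₁ (hRN hy₁) x₁ (hRN hx₁))
    have hζI : scalarUnit ι F ζ ∈ I := hζ ▸ hcI y₁ (hRN hy₁) x₁ (hRN hx₁)
    have h : y₁ * x₁ = scalarUnit ι F ζ * x₁ * y₁ := by rw [hζ]; group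
    have hexp : y₁ ^ r = 1 := by
      have h1 := Monoid.pow_exponent_eq_one (⟨y₁, hy₁⟩ : R)
      rw [hd.symplecticType.exponent_eq, Nat.coprime_iff_gcd_eq_one.1 (Nat.coprime_two_left.2 hodd),
        mul_one] at h1
      exact congrArg Subtype.val h1
    have h1 := commute_of_odd_exponent hodd hexp (fun g => scalarUnit_comm ζ g) h
      (by rw [← map_pow, hscalI ζ hζI, map_one])
    exact hne (by rw [h, h1, one_mul])
  subst hr2
  have h2 : (2 : F) ≠ 0 := hd.two_ne rfl
  set R₀ := N ⊓ I with hR₀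
  have hsup : R₀ ⊔ Z = N := by
    refine le_antisymm (sup_le inf_le_left hZN) fun x hx => ?_
    obtain ⟨h, hh, z, hz, rfl⟩ := hsplit x hx
    exact mul_mem (Subgroup.mem_sup_left hh) (Subgroup.mem_sup_right hz)
  have htop₀ : Algebra.adjoin F (matrixSet R₀) = ⊤ := by rw [← adjoin_sup_scalars, hsup, htop]
  have habs₀ := absIrred_of_adjoin_eq_top htop₀
  have hnorm₀ : ∀ g ∈ H, ∀ x ∈ R₀, g * x * g⁻¹ ∈ R₀ := fun g hg x hx =>
    ⟨hnorm g hg x hx.1, I.mul_mem (I.mul_mem (hH hg) hx.2) (I.inv_mem (hH hg))⟩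
  have hscal₀ : ∀ x ∈ R₀, x ∈ Z → ∃ c : Fˣ, c ^ 2 = 1 ∧ scalarUnit ι F c = x := by
    intro x hx hxZ
    obtain ⟨c, rfl⟩ := mem_scalars_iff_scalarUnit.1 hxZ
    exact ⟨c, hscalI c hx.2, rfl⟩
  have hpow4 : ∀ x ∈ R₀, x ^ 4 = 1 := by
    intro x hx
    obtain ⟨c, hc, hcx⟩ := hscal₀ (x ^ 2) (pow_mem hx 2) (hpow x hx.1)
    rw [show (4 : ℕ) = 2 * 2 from rfl, pow_mul, ← hcx, ← map_pow, hc, map_one]
  -- the orders
  have hcentre₀ : Subgroup.center R₀ = Z.subgroupOf R₀ :=
    Subgroup.ext fun x => centre_eq_scalars htop₀ x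
  have hcentre : Subgroup.center R = Z.subgroupOf R :=
    Subgroup.ext fun x => centre_eq_scalars hd.adjoin_top x
  set negOne : GL ι F := scalarUnit ι F (-1) with hnegOne
  have hnegI : negOne ∈ I := by
    rw [mem_spGL]
    intro u v
    rw [hnegOne, scalarUnit_coe, smul_mulVec', smul_mulVec', D.form_smul_left, D.form_smul_right]
    rw [Units.val_neg, Units.val_one, show D.τ (-1) = -1 from rfl]
    ring
  have hneg₀ : negOne ∈ R₀ := ⟨hZN (scalarUnit_mem _), hnegI⟩
  have hne1 : (⟨negOne, hneg₀⟩ : R₀) ≠ 1 := by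
    intro h
    have h1 : scalarUnit ι F (-1) = scalarUnit ι F 1 := by
      rw [map_one]; exact congrArg Subtype.val h
    have h3 := congrArg Units.val (scalarUnit_injective h1)
    rw [Units.val_neg, Units.val_one, neg_eq_iff_add_eq_zero, one_add_one_eq_two] at h3
    exact h2 h3
  have hZ₀ : Nat.card (Z.subgroupOf R₀) = 2 := by
    have hset : ((Z.subgroupOf R₀ : Subgroup R₀) : Set R₀) = {1, ⟨negOne, hneg₀⟩} := by
      ext x
      rw [Set.mem_insert_iff, Set.mem_singleton_iff, SetLike.mem_coe, Subgroup.mem_subgroupOf]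
      constructor
      · intro hx
        obtain ⟨c, hc, hcx⟩ := hscal₀ x x.2 hx
        have h' : (c : F) ^ 2 = 1 := by rw [← Units.val_pow_eq_pow_val, hc, Units.val_one]
        rcases sq_eq_one_iff.1 h' with h | h
        · left
          apply Subtype.ext
          rw [← hcx, show c = 1 from Units.ext h, map_one]; rfl
        · right
          apply Subtype.ext
          rw [← hcx, show c = -1 from Units.ext (by rw [h, Units.val_neg, Units.val_one])]
      · rintro (rfl | rfl)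
        · exact one_mem Z
        · exact scalarUnit_mem _
    rw [← SetLike.coe_sort_coe, Nat.card_coe_set_eq, hset, Set.ncard_pair hne1.symm]
  obtain ⟨k, hk1, hnk, hcardR⟩ := hd.exists_m
  have hidx : (Z.subgroupOf R₀).index = 2 ^ (2 * k) := by
    have hRsup : R ⊔ Z = N := by
      refine le_antisymm (sup_le hRN hZN) fun x hx => ?_
      obtain ⟨c, hc⟩ := hdec x hx
      have : x = scalarUnit ι F c⁻¹ * (scalarUnit ι F c * x) := by
        rw [← mul_assoc, ← map_mul, inv_mul_cancel, map_one, one_mul]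
      rw [this]
      exact mul_mem (Subgroup.mem_sup_right (scalarUnit_mem _)) (Subgroup.mem_sup_left hc)
    have h1 : (Z.subgroupOf R₀).index = (Z.subgroupOf R).index := by
      show Z.relIndex R₀ = Z.relIndex R
      rw [← Subgroup.relIndex_sup_right, hsup, ← hRsup, Subgroup.relIndex_sup_right]
    rw [h1, ← hcentre]
    have h3 := (Subgroup.center R).card_mul_index
    rw [hcardR] at h3
    exact Nat.eq_of_mul_eq_mul_left Nat.card_pos h3
  have hcard₀ : Nat.card R₀ = 2 ^ (1 + 2 * k) := by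
    rw [← (Z.subgroupOf R₀).card_mul_index, hZ₀, hidx, pow_add, pow_one]
  -- either realisable over the prime field
  obtain ⟨p, e, hp, he, hchar⟩ : ∃ p, ∃ e : ℕ+, p.Prime ∧ Fintype.card F = p ^ (e : ℕ) ∧ CharP F p := by
    obtain ⟨e, hp, he⟩ := FiniteField.card F (ringChar F)
    exact ⟨_, e, hp, he, ringChar.charP F⟩
  haveI := hchar
  haveI : ExpChar F p := ExpChar.prime hp
  have htr₀ : ∀ x ∈ R₀, x ∈ Z ∨ (x : Matrix ι ι F).trace = 0 := by
    intro x hx
    obtain ⟨c, hc⟩ := hdec x hx.1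
    rcases hd.scalar_or_trace _ hc with ⟨d, -, hdx⟩ | htr
    · left
      have : x = scalarUnit ι F c⁻¹ * (scalarUnit ι F c * x) := by
        rw [← mul_assoc, ← map_mul, inv_mul_cancel, map_one, one_mul]
      rw [this, ← hdx]
      exact mul_mem (scalarUnit_mem _) (scalarUnit_mem _)
    · right
      rw [Units.val_mul, scalarUnit_coe, Matrix.smul_mul, one_mul, Matrix.trace_smul, smul_eq_mul] at htr
      exact (mul_eq_zero.1 htr).resolve_left c.ne_zero
  set F₀ : Subfield F := (iterateFrobenius F p 1).eqLocusField (RingHom.id F) with hF₀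
  by_cases hF : F₀ = ⊤
  swap
  · obtain ⟨F₁, r, Q, ζ, hr, hcard, hζ, hrat, hle⟩ :=
      D.exists_subfield_member (P := R₀) habs₀ hnorm₀
        ((fixesForm_iff _ R₀ D.T).1 (by rintro _ ⟨s, hs, rfl⟩ u v; exact mem_spGL.1 hs.2 u v)) hF
        (realisableOver_of_trace F₀ R₀ habs₀.1 htop₀ hd.card_ne fun x hx => by
          rcases htr₀ x hx with h | h
          · obtain ⟨c, hc, rfl⟩ := hscal₀ x hx h
            refine Or.inl ⟨c, ?_, scalarUnit_coe c⟩
            show (c : F) ^ p ^ 1 = c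
            have h' : (c : F) ^ 2 = 1 := by rw [← Units.val_pow_eq_pow_val, hc, Units.val_one]
            rw [pow_one]
            rcases sq_eq_one_iff.1 h' with h | h <;> rw [h]
            · exact one_pow p
            · simpa [frobenius_def] using map_neg (frobenius F p) 1
          · exact Or.inr h)
    refine Or.inl ⟨fun hpr => ?_, _, Or.inr (Or.inr (Or.inr (Or.inr (Or.inl ⟨F₁, r, Q, ζ, hr, hcard, hζ, hrat, rfl⟩)))), hle⟩
    rw [hcard] at hpr
    exact hr.ne_one (Nat.Prime.eq_one_of_pow hpr)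
  have hcardF : Fintype.card F = p := by
    obtain ⟨g, hg⟩ := IsCyclic.exists_generator (α := Fˣ)
    have h1 : g ^ (p - 1) = 1 := by
      have h3 : (g : F) ^ p ^ 1 = g := (hF ▸ trivial : (g : F) ∈ F₀)
      rw [pow_one] at h3
      apply Units.ext
      have h4 : (g : F) ^ (p - 1) * g = 1 * g := by
        rw [← pow_succ, Nat.sub_add_cancel hp.one_lt.le, h3, one_mul]
      simpa using mul_right_cancel₀ g.ne_zero h4
    have h5 := orderOf_dvd_of_pow_eq_one h1
    rw [orderOf_eq_card_of_forall_mem_zpowers hg, Nat.card_units, Nat.card_eq_fintype_card] at h5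
    have := Nat.le_of_dvd (by have := hp.two_le; omega) h5
    have := hp.two_le
    have hpq : p ≤ Fintype.card F := by rw [he]; exact Nat.le_self_pow e.pos.ne' p
    omega
  have hFodd : Odd (Fintype.card F) := odd_card_iff.2 h2
  -- the minus type
  have hminus : IsOfMinusType k R₀ := by
    intro A hA hA2
    haveI := hA
    let SA : Set (Matrix ι ι F) := (fun x : A => ((x : R₀) : GL ι F).val) '' Set.univ
    have hbound := D.two_mul_finrank_le sympData_τ sympData_self h2 hFodd SA ?_ ?_ ?_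
    rotate_left
    · rintro _ ⟨x, -, rfl⟩
      exact congrArg (fun y : R₀ => ((y : GL ι F) : Matrix ι ι F)) (hA2 x x.2)
    · rintro _ ⟨x, -, rfl⟩ _ ⟨y, -, rfl⟩
      exact congrArg (fun w : A => ((w : R₀) : GL ι F).val) (mul_comm' x y)
    · rintro _ ⟨x, -, rfl⟩
      refine (D.eq_adj fun u v => ?_).symm
      have h1 := mem_spGL.1 (x : R₀).2.2 u (((x : R₀) : GL ι F).val *ᵥ v)
      rw [Matrix.mulVec_mulVec, show ((x : R₀) : GL ι F).val * ((x : R₀) : GL ι F).val = 1 from
        congrArg (fun y : R₀ => ((y : GL ι F) : Matrix ι ι F)) (hA2 x x.2), Matrix.one_mulVec] at h1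
      exact h1
    let K : Subgroup A := (Z.subgroupOf R₀).subgroupOf A
    have hK : Nat.card K ≤ 2 := hZ₀ ▸ Nat.card_le_card_of_injective
      (fun x : K => (⟨((x : A) : R₀), x.2⟩ : Z.subgroupOf R₀))
      (fun x y h => Subtype.ext (Subtype.ext (congrArg (fun w : Z.subgroupOf R₀ => (w : R₀)) h)))
    haveI : Fintype (A ⧸ K) := Fintype.ofFinite _
    let u : A ⧸ K → GL ι F := fun a => ((a.out : A) : R₀).val
    let v : A ⧸ K → Matrix ι ι F := fun a => (u a : Matrix ι ι F)
    have hli : LinearIndependent F v := by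
      rw [Fintype.linearIndependent_iff]
      intro g hg a
      have h1 : ∑ b, g b * ((u b * (u a)⁻¹ : GL ι F) : Matrix ι ι F).trace = 0 := by
        have h := congrArg (fun M : Matrix ι ι F => (M * (((u a)⁻¹ : GL ι F) : Matrix ι ι F)).trace) hg
        simp only [zero_mul, Matrix.trace_zero] at h
        rw [Matrix.sum_mul, Matrix.trace_sum] at h
        rw [← h]
        refine Finset.sum_congr rfl fun b _ => ?_
        rw [Matrix.smul_mul, Matrix.trace_smul, smul_eq_mul, Units.val_mul]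
      rw [Finset.sum_eq_single a ?_ (fun h => absurd (Finset.mem_univ a) h)] at h1
      · rw [mul_inv_cancel, Units.val_one, Matrix.trace_one] at h1
        exact (mul_eq_zero.1 h1).resolve_right hd.card_ne
      · intro b _ hb
        have hmem : u b * (u a)⁻¹ ∈ R₀ := R₀.mul_mem ((b.out : A) : R₀).2 (R₀.inv_mem ((a.out : A) : R₀).2)
        rcases htr₀ _ hmem with h | h
        · exfalso
          apply hb
          have hK' : (b.out : A) * (a.out : A)⁻¹ ∈ K := h
          have h4 : (b.out : A)⁻¹ * (a.out : A) ∈ K := by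
            have h5 := inv_mem hK'
            rw [_root_.mul_inv_rev, inv_inv, mul_comm' (a.out : A)] at h5
            exact h5
          have h6 := QuotientGroup.eq.2 h4
          rwa [QuotientGroup.out_eq', QuotientGroup.out_eq'] at h6
        · rw [h, mul_zero]
    have hdim : Nat.card (A ⧸ K) ≤ Module.finrank F (Algebra.adjoin F SA) := by
      rw [Nat.card_eq_fintype_card, ← finrank_span_eq_card hli]
      refine Submodule.finrank_mono (t := Subalgebra.toSubmodule (Algebra.adjoin F SA)) (Submodule.span_le.2 ?_)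
      rintro _ ⟨a, rfl⟩
      exact Algebra.subset_adjoin ⟨a.out, Set.mem_univ _, rfl⟩
    calc Nat.card A = Nat.card (A ⧸ K) * Nat.card K := K.card_eq_card_quotient_mul_card_subgroup
      _ ≤ Module.finrank F (Algebra.adjoin F SA) * 2 := Nat.mul_le_mul hdim hK
      _ ≤ Fintype.card ι := by rw [mul_comm]; exact hbound
      _ < 2 ^ (k + 1) := by rw [hnk]; exact Nat.pow_lt_pow_right (by norm_num) (by omega)
  have hnc : ¬ ∀ x ∈ R₀, ∀ y ∈ R₀, x * y = y * x := by
    intro h
    apply hne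
    obtain ⟨h1, hh1, z1, hz1, e1⟩ := hsplit x₁ (hRN hx₁)
    obtain ⟨h3, hh3, z3, hz3, e3⟩ := hsplit y₁ (hRN hy₁)
    rw [e1, e3]
    calc h3 * z3 * (h1 * z1) = h3 * h1 * (z3 * z1) := by
          rw [mul_assoc, ← mul_assoc z3, ← scalars_comm hz3 h1]; simp only [mul_assoc]
      _ = h1 * h3 * (z1 * z3) := by rw [h h1 hh1 h3 hh3, scalars_comm hz1 z3]
      _ = h1 * z1 * (h3 * z3) := by
          rw [mul_assoc h1 z1, ← mul_assoc z1, ← scalars_comm hz1 h3]; simp only [mul_assoc]
  have hsymp : IsSymplecticTypeGroup 2 R₀ := by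
    refine ⟨Nat.prime_two, ?_, ?_, ?_⟩
    · rintro ⟨x, hx⟩
      exact ⟨2, Subtype.ext (by rw [SubmonoidClass.coe_pow]; exact hpow4 x hx)⟩
    · intro A hA hAc
      haveI := hAc
      have hAH : ∀ g ∈ H, ∀ x ∈ A.map R₀.subtype, g * x * g⁻¹ ∈ A.map R₀.subtype := by
        rintro g hg _ ⟨a, ha, rfl⟩
        let φ : R₀ ≃* R₀ :=
          { toFun := fun x => ⟨g * x * g⁻¹, hnorm₀ g hg x x.2⟩
            invFun := fun x => ⟨g⁻¹ * x * g, by simpa using hnorm₀ g⁻¹ (inv_mem hg) x x.2⟩
            left_inv := fun x => Subtype.ext (by simp [mul_assoc])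
            right_inv := fun x => Subtype.ext (by simp [mul_assoc])
            map_mul' := fun x y => Subtype.ext (by simp [mul_assoc]) }
        refine ⟨φ a, ?_, rfl⟩
        have := hA.fixed φ
        have ha' : a ∈ A.comap φ.toMonoidHom := this.symm ▸ ha
        exact ha'
      have hAN : A.map R₀.subtype ⊔ Z ≤ N :=
        sup_le (by rintro _ ⟨a, -, rfl⟩; exact a.2.1) hZN
      rcases hmin (A.map R₀.subtype ⊔ Z) le_sup_right hAN (fun g hg x hx => by
        have : A.map R₀.subtype ⊔ Z ≤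
            (A.map R₀.subtype ⊔ Z).comap (MulAut.conj g).toMonoidHom := by
          refine sup_le (fun y hy => Subgroup.mem_sup_left (hAH g hg y hy)) (fun y hy => ?_)
          exact Subgroup.mem_sup_right (Subgroup.Normal.conj_mem inferInstance y hy g)
        exact this hx) with h | h
      · have hAZ : ∀ a : A, ((a : R₀) : GL ι F) ∈ Z := fun a =>
          h ▸ Subgroup.mem_sup_left ⟨a, a.2, rfl⟩
        choose f hf using fun a => mem_scalars_iff_scalarUnit.1 (hAZ a)
        let fh : A →* Fˣ :=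
          { toFun := f
            map_one' := scalarUnit_injective (by rw [hf, map_one]; rfl)
            map_mul' := fun x y => scalarUnit_injective (by rw [hf, map_mul, hf, hf]; rfl) }
        exact isCyclic_of_injective fh fun a b hab => by
          have h1 := (hf a).symm.trans ((congrArg (scalarUnit ι F) hab).trans (hf b))
          exact Subtype.ext (Subtype.ext h1)
      · exfalso
        apply hnc
        have key : ∀ x ∈ N, ∀ y ∈ N, x * y = y * x := by
          intro x hx y hy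
          rw [← h] at hx hy
          obtain ⟨_, ⟨a, ha, rfl⟩, z, hz, rfl⟩ := Subgroup.mem_sup_of_normal_right.1 hx
          obtain ⟨_, ⟨b, hb, rfl⟩, w, hw, rfl⟩ := Subgroup.mem_sup_of_normal_right.1 hy
          have hab : (a : GL ι F) * b = b * a :=
            congrArg (fun u : A => ((u : R₀) : GL ι F)) (mul_comm' (⟨a, ha⟩ : A) ⟨b, hb⟩)
          show (a : GL ι F) * z * ((b : GL ι F) * w) = (b : GL ι F) * w * ((a : GL ι F) * z)
          calc (a : GL ι F) * z * ((b : GL ι F) * w) = a * b * (z * w) := by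
                rw [mul_assoc, ← mul_assoc z, ← scalars_comm hz (b : GL ι F)]; simp only [mul_assoc]
            _ = b * a * (w * z) := by rw [hab, scalars_comm hw z]
            _ = b * w * (a * z) := by
                rw [mul_assoc (b : GL ι F) w, ← mul_assoc w, ← scalars_comm hw (a : GL ι F)]
                simp only [mul_assoc]
        exact fun x hx y hy => key x hx.1 y hy.1
    · have hdvd : Monoid.exponent R₀ ∣ 2 ^ 2 :=
        Monoid.exponent_dvd_of_forall_pow_eq_one fun x => Subtype.ext (by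
          rw [SubmonoidClass.coe_pow]; exact hpow4 x x.2)
      show Monoid.exponent R₀ = 4
      obtain ⟨j, hj, hj'⟩ := (Nat.dvd_prime_pow Nat.prime_two).1 hdvd
      have hne : j = 2 := by
        by_contra hjne
        apply hnc
        have hkey : ∀ u : R₀, u⁻¹ = u := fun u => by
          have h3 := Monoid.pow_exponent_eq_one u
          rw [hj'] at h3
          have hj1 : j = 0 ∨ j = 1 := by omega
          rcases hj1 with rfl | rfl
          · rw [pow_zero, pow_one] at h3; rw [h3, inv_one]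
          · rw [pow_one, pow_two] at h3; exact inv_eq_of_mul_eq_one_right h3
        intro x hx y hy
        have h4 : (⟨x, hx⟩ * ⟨y, hy⟩ : R₀) = ⟨y, hy⟩ * ⟨x, hx⟩ := by
          rw [← hkey (⟨x, hx⟩ * ⟨y, hy⟩), _root_.mul_inv_rev, hkey, hkey]
        exact congrArg Subtype.val h4
      rw [hj', hne]
      norm_num
  refine Or.inr ⟨R₀, p, k, hsymp, habs₀,
    fun x hx => spGL_le_sim hx.2, hp, hcardF ▸ hFodd, hcardF, hcard₀, by rw [hcentre₀, hZ₀], hminus,
    ?_, fun x hx => hpow x hx.1, fun x hx y hy => hcomm x hx.1 y hy.1, ?_⟩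
  · rw [← hnk, Fintype.card_sum, Fintype.card_fin]; omega
  · intro g hg
    rw [subgroupNormalizer, Subgroup.mem_normalizer_iff]
    intro x
    refine ⟨fun hx => hnorm₀ g hg x hx, fun hx => ?_⟩
    have := hnorm₀ g⁻¹ (inv_mem hg) _ hx
    simpa [mul_assoc] using this

/-- The case of a minimal normal subgroup which is abelian modulo scalars. -/
theorem inSpClass_of_abelian (hm : 1 ≤ m) {H N : Subgroup (GL (Fin m ⊕ Fin m) F)}
    (hH : H ≤ Cfsg.spGL m F) (hZN : scalars (Fin m ⊕ Fin m) F ≤ N)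
    (hns : ¬ N ≤ scalars (Fin m ⊕ Fin m) F) (hNH : N ≤ H ⊔ scalars (Fin m ⊕ Fin m) F)
    (hnorm : ∀ g ∈ H, ∀ x ∈ N, g * x * g⁻¹ ∈ N)
    (htop : Algebra.adjoin F (matrixSet N) = ⊤)
    (hcomm : ∀ x ∈ N, ∀ y ∈ N, x * y * x⁻¹ * y⁻¹ ∈ scalars (Fin m ⊕ Fin m) F)
    (hmin : ∀ M : Subgroup (GL (Fin m ⊕ Fin m) F), scalars (Fin m ⊕ Fin m) F ≤ M → M ≤ N →
      (∀ g ∈ H, ∀ x ∈ M, g * x * g⁻¹ ∈ M) → M = scalars (Fin m ⊕ Fin m) F ∨ M = N) :
    InSpClass H := by
  rcases abelian_member hm hH hZN hns hNH hnorm htop hcomm hmin with ⟨-, h⟩ |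
    ⟨R, p, k, h1, h2, h3, h4, h5, h6, h7, h8, h9, h10, h11, h12, hle⟩
  · exact h
  · exact ⟨_, Or.inr (Or.inr (Or.inr (Or.inr (Or.inr (Or.inl
      ⟨R, p, k, h1, h2, h3, h4, h5, h6, h7, h8, h9, h10, h11, h12, rfl⟩))))), hle⟩

end Cfsg.Agent.Aschbacher
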