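/-
Tensor decompositions of the symplectic form.
-/
import Mathlib
import Cfsg.Agent.Aschbacher.Sp.Base
import Cfsg.Agent.Aschbacher.Formed.Coord

set_option autoImplicit false
set_option linter.style.haveILetI false

namespace Cfsg.Agent.Aschbacher

open Matrix
open Cfsg.Geo
open scoped Kronecker

variable {F : Type*} [Field F] {m : ℕ}

lemma sympData_map (X : Matrix (Fin m ⊕ Fin m) (Fin m ⊕ Fin m) F) : X.map (sympData m F).τ = X :=
  Matrix.map_id X

/-- The isometries in coordinates fix the transformed Gram matrix. -/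
lemma sympData_pull_isometry {κ : Type} [Fintype κ] [DecidableEq κ] (e : (Fin m ⊕ Fin m) ≃ κ)
    (P : GL (Fin m ⊕ Fin m) F) {g : GL (Fin m ⊕ Fin m) F} (hg : g ∈ Cfsg.spGL m F) :
    (glCoord e P g : Matrix κ κ F)ᵀ * (sympData m F).pull e P * (glCoord e P g : Matrix κ κ F) =
      (sympData m F).pull e P := by
  have h := (sympData m F).pull_isometry e P g (mem_spGL.1 hg)
  rwa [show (glCoord e P g : Matrix κ κ F).map (sympData m F).τ = (glCoord e P g : Matrix κ κ F) from
    Matrix.map_id _] at h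

lemma sympData_pull_skew {κ : Type} [Fintype κ] [DecidableEq κ] (e : (Fin m ⊕ Fin m) ≃ κ)
    (P : GL (Fin m ⊕ Fin m) F) : ((sympData m F).pull e P)ᵀ = -(sympData m F).pull e P := by
  have h := (sympData m F).pull_refl e P
  rw [show ((sympData m F).pull e P).map (sympData m F).τ = (sympData m F).pull e P from Matrix.map_id _] at h
  rw [h]
  exact neg_one_smul F _

lemma formOfGram_id {κ : Type} [Fintype κ] (G : Matrix κ κ F) (x y : κ → F) :
    formOfGram id G x y = x ⬝ᵥ G *ᵥ y := by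
  simp [formOfGram, dotProduct, Matrix.mulVec, Finset.mul_sum, mul_assoc]

lemma gramMatrix_sesqForm {κ : Type} [Fintype κ] [DecidableEq κ] (σ : F →+* F) (G : Matrix κ κ F) :
    gramMatrix (sesqForm σ G) = G := by
  ext a b
  exact sesqForm_single σ G a b

lemma diag_zero_of_skew (h2 : (2 : F) ≠ 0) {κ : Type*} {G : Matrix κ κ F} (h : Gᵀ = -G) (i : κ) :
    G i i = 0 := by
  have h1 : G i i = -G i i := congrFun (congrFun h i) i
  rw [eq_neg_iff_add_eq_zero, ← two_mul] at h1
  exact (mul_eq_zero.1 h1).resolve_left h2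

lemma isSymmetricForm_sesqForm {κ : Type} [Fintype κ] [DecidableEq κ] {G : Matrix κ κ F} (h : Gᵀ = G)
    (hG : IsUnit G.det) : IsSymmetricForm (sesqForm (RingHom.id F) G) where
  bilinear := isBilinearForm_sesqForm G
  symm u v := by rw [sesqForm_id_transpose, h]
  nondegenerate := isNondegenerateForm_sesqForm (RingHom.id F) hG

variable [Fintype F] {H : Subgroup (GL (Fin m ⊕ Fin m) F)}

section

variable {n₁ n₂ : ℕ} (e : (Fin m ⊕ Fin m) ≃ Fin n₁ × Fin n₂) (P : GL (Fin m ⊕ Fin m) F)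
  {G : Matrix (Fin n₁) (Fin n₁) F} {S : Matrix (Fin n₂) (Fin n₂) F}

/-- How the isometries act on the two factors. -/
lemma exists_factor_similitudes (hm : 1 ≤ m) (hG : IsUnit G.det) (hS : IsUnit S.det)
    (hpull : (sympData m F).pull e P = G ⊗ₖ S) (hH : H ≤ Cfsg.spGL m F)
    (hle : H ≤ tensorProductSubgroup n₁ n₂ e P) {g : GL (Fin m ⊕ Fin m) F} (hg : g ∈ H) :
    ∃ (a : GL (Fin n₁) F) (b : GL (Fin n₂) F) (c : F), c ≠ 0 ∧
      (glCoord e P g : Matrix (Fin n₁ × Fin n₂) (Fin n₁ × Fin n₂) F) =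
        (a : Matrix (Fin n₁) (Fin n₁) F) ⊗ₖ (b : Matrix (Fin n₂) (Fin n₂) F) ∧
      (a : Matrix (Fin n₁) (Fin n₁) F)ᵀ * G * (a : Matrix (Fin n₁) (Fin n₁) F) = c • G ∧
      (b : Matrix (Fin n₂) (Fin n₂) F)ᵀ * S * (b : Matrix (Fin n₂) (Fin n₂) F) = c⁻¹ • S := by
  obtain ⟨⟨i, j⟩⟩ : Nonempty (Fin n₁ × Fin n₂) := ⟨e (Sum.inl ⟨0, hm⟩)⟩
  haveI : Nonempty (Fin n₁) := ⟨i⟩
  haveI : Nonempty (Fin n₂) := ⟨j⟩
  obtain ⟨a, b, hab⟩ := exists_kronecker_of_mem (hle hg)
  have h := sympData_pull_isometry e P (hH hg)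
  rw [hpull, hab, ← Matrix.kroneckerMap_transpose, ← Matrix.mul_kronecker_mul, ← Matrix.mul_kronecker_mul] at h
  obtain ⟨c, hc, h1, h2⟩ := exists_smul_of_kronecker_eq hG hS h
  exact ⟨a, b, c, hc, hab, h1, h2⟩

/-- In characteristic two a factor which is not alternating contradicts irreducibility. -/
lemma not_irred_of_nonalternating (hm : 1 ≤ m) (h2 : (2 : F) = 0) (hn : 2 ≤ n₁) (hG : IsUnit G.det)
    (hS : IsUnit S.det) (hsymm : Gᵀ = G) (hpull : (sympData m F).pull e P = G ⊗ₖ S)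
    (hH : H ≤ Cfsg.spGL m F) (hle : H ≤ tensorProductSubgroup n₁ n₂ e P) {i : Fin n₁} (hi : G i i ≠ 0) :
    ¬ Irred H := by
  obtain ⟨⟨-, j⟩⟩ : Nonempty (Fin n₁ × Fin n₂) := ⟨e (Sum.inl ⟨0, hm⟩)⟩
  obtain ⟨E, K, hE, hK, hEK, hproj⟩ := exists_projection h2 hn hsymm hi
  have hne : ∀ X : Matrix (Fin n₁) (Fin n₁) F, X ≠ 0 → X ⊗ₖ (1 : Matrix (Fin n₂) (Fin n₂) F) ≠ 0 := by
    intro X hX h
    apply hX
    ext a b
    have := congrFun (congrFun h (a, j)) (b, j)
    simpa using this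
  refine not_irred_of_invariant e P (hne E hE) (hne K hK)
    (by rw [← Matrix.mul_kronecker_mul, hEK, Matrix.zero_kronecker]) fun g hg => ?_
  obtain ⟨a, b, c, -, hab, ha, -⟩ := exists_factor_similitudes e P hm hG hS hpull hH hle hg
  rw [hab, ← Matrix.mul_kronecker_mul, ← Matrix.mul_kronecker_mul, ← Matrix.mul_kronecker_mul,
    hproj _ c ha]
  simp

/-- In characteristic two, two alternating factors give an invariant quadratic form. -/
lemma inSpClass_of_alternating (hm : 1 ≤ m) (h2 : (2 : F) = 0) (hG : IsUnit G.det) (hS : IsUnit S.det)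
    (hsymm : Gᵀ = G) (hSsymm : Sᵀ = S) (hGd : ∀ i, G i i = 0) (hSd : ∀ i, S i i = 0)
    (hpull : (sympData m F).pull e P = G ⊗ₖ S) (hH : H ≤ Cfsg.spGL m F)
    (hle : H ≤ tensorProductSubgroup n₁ n₂ e P) : InSpClass H := by
  let Gu : Matrix (Fin n₁) (Fin n₁) F := Matrix.of fun a b => if a < b then G a b else 0
  have hGu : Gu + Guᵀ = G := by
    ext a b
    rcases lt_trichotomy a b with h | h | h
    · simp [Gu, h, h.asymm]
    · subst h; simp [Gu, hGd]
    · have hs : G b a = G a b := congrFun (congrFun hsymm a) b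
      simp [Gu, h, h.asymm, hs]
  obtain ⟨Q, hQ, hQH⟩ := (sympData m F).exists_quad_of_upper sympData_τ h2 e P (U := Gu ⊗ₖ S) (H := H)
    (by rw [← Matrix.kroneckerMap_transpose, hSsymm, ← Matrix.add_kronecker, hGu, hpull])
    (fun g hg => mem_spGL.1 (hH hg)) fun g hg p => by
      obtain ⟨a, b, c, -, hab, -, hb⟩ := exists_factor_similitudes e P hm hG hS hpull hH hle hg
      have hcol : ∀ (X U : Matrix (Fin n₁ × Fin n₂) (Fin n₁ × Fin n₂) F),
          (X *ᵥ Pi.single p 1) ⬝ᵥ U *ᵥ (X *ᵥ Pi.single p 1) = (Xᵀ * U * X) p p := by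
        intro X U
        rw [Matrix.mulVec_single_one, mul_assoc, Matrix.mul_apply']
        rfl
      rw [hcol, hab, ← Matrix.kroneckerMap_transpose, ← Matrix.mul_kronecker_mul, ← Matrix.mul_kronecker_mul,
        hb]
      simp [hSd]
  exact inSpClass_of_quad h2 hQ hQH

/-- A symplectic factor and a symmetric one of dimension two. -/
lemma inSpClass_of_symmetric_two (e : (Fin m ⊕ Fin m) ≃ Fin n₁ × Fin 2)
    {S : Matrix (Fin 2) (Fin 2) F} (hm : 1 ≤ m) (h2 : (2 : F) ≠ 0) (hG : IsUnit G.det)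
    (hS : IsUnit S.det) (hSsymm : Sᵀ = S) (hpull : (sympData m F).pull e P = G ⊗ₖ S)
    (hH : H ≤ Cfsg.spGL m F) (hirr : Irred H) (hle : H ≤ tensorProductSubgroup n₁ 2 e P) :
    InSpClass H := by
  haveI : Nonempty (Fin m ⊕ Fin m) := ⟨Sum.inl ⟨0, hm⟩⟩
  obtain ⟨⟨i₀, -⟩⟩ : Nonempty (Fin n₁ × Fin 2) := ⟨e (Sum.inl ⟨0, hm⟩)⟩
  set D := sympData m F with hD
  set J := S⁻¹ * altTwo F with hJ
  set M : Matrix (Fin n₁ × Fin 2) (Fin n₁ × Fin 2) F := (1 : Matrix (Fin n₁) (Fin n₁) F) ⊗ₖ J with hM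
  set z := conjMat P (M.submatrix e e) with hz
  have hadj : D.adj z = -z := by
    have hJS : Jᵀ * S = -(S * J) := by
      rw [hJ, Matrix.transpose_mul, Matrix.transpose_nonsing_inv, hSsymm, altTwo_transpose, neg_one_smul,
        mul_assoc, Matrix.nonsing_inv_mul _ hS, mul_one, ← mul_assoc, Matrix.mul_nonsing_inv _ hS, one_mul]
    have h1 : D.adj z = conjMat P ((-M).submatrix e e) := by
      refine D.adj_of_intertwine e P ?_
      rw [show (-M).map D.τ = -M from Matrix.map_id _, hpull, hM, ← Matrix.kroneckerMap_transpose,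
        ← Matrix.mul_kronecker_mul, Matrix.transpose_one, one_mul, hJS, mul_neg, ← Matrix.mul_kronecker_mul,
        mul_one]
      ext ⟨p, q⟩ ⟨p', q'⟩
      simp
    rw [h1, hz, ← map_neg]
    rfl
  have hns : ∀ c : F, z ≠ c • 1 := by
    intro c hc
    have h1 : M.submatrix e e = c • 1 := (conjMat P).injective (by rw [map_smul, map_one]; exact hc)
    have h3 : J = c • 1 := by
      ext p q
      have := congrFun (congrFun h1 (e.symm (i₀, p))) (e.symm (i₀, q))
      simpa [hM, Matrix.one_apply] using this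
    have h4 : altTwo F = c • S := by
      have := congrArg (S * ·) h3
      simpa [hJ, ← mul_assoc, Matrix.mul_nonsing_inv _ hS] using this
    have h5 := congrArg Matrix.transpose h4
    rw [Matrix.transpose_smul, hSsymm, ← h4, altTwo_transpose] at h5
    have h6 : (altTwo F) 0 1 = -(altTwo F) 0 1 := by
      conv_lhs => rw [← h5]
      simp
    simp [altTwo] at h6
    exact h2 (by linear_combination h6)
  let A : Subalgebra F (Matrix (Fin m ⊕ Fin m) (Fin m ⊕ Fin m) F) := Algebra.adjoin F {z}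
  have hzA : z ∈ A := Algebra.subset_adjoin rfl
  have hzc : z ∈ subCentre A := by
    refine mem_subCentre.2 ⟨hzA, fun a ha => ?_⟩
    have hle' : A ≤ Subalgebra.centralizer F {z} := Algebra.adjoin_le (by
      rintro _ rfl
      rw [SetLike.mem_coe, Subalgebra.mem_centralizer_iff]
      rintro _ rfl
      rfl)
    exact ((Subalgebra.mem_centralizer_iff F).1 (hle' ha) z rfl).symm
  have hadjA : ∀ x ∈ A, D.adj x ∈ A := by
    intro x hx
    induction hx using Algebra.adjoin_induction with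
    | mem y hy => rw [Set.mem_singleton_iff.1 hy, hadj]; exact neg_mem hzA
    | algebraMap c =>
      rw [Algebra.algebraMap_eq_smul_one, D.adj_scalar]
      exact Subalgebra.smul_mem _ (one_mem _) _
    | add y w _ _ hy hw => rw [D.adj_add]; exact add_mem hy hw
    | mul y w _ _ hy hw => rw [D.adj_mul]; exact mul_mem hw hy
  have hconjA : ∀ g ∈ H, ∀ x ∈ A, conjMat g x ∈ A := by
    intro g hg
    obtain ⟨a, b, c, hc0, hab, -, hb⟩ := exists_factor_similitudes e P hm hG hS hpull hH hle hg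
    set B := (b : Matrix (Fin 2) (Fin 2) F) with hB
    set d := B.det
    have hd : d ≠ 0 := (Matrix.GeneralLinearGroup.det b).ne_zero
    have hBJ : B * J = (c⁻¹ / d) • (J * B) := by
      have h4 : S * B * J = (c⁻¹ / d) • (altTwo F * B) := by
        have hinj : Function.Injective fun X : Matrix (Fin 2) (Fin 2) F => Bᵀ * X := by
          intro X Y h
          have hu : IsUnit Bᵀ.det := by rw [Matrix.det_transpose]; exact IsUnit.mk0 _ hd
          have := congrArg (Bᵀ⁻¹ * ·) h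
          simpa [← mul_assoc, Matrix.nonsing_inv_mul _ hu] using this
        apply hinj
        show Bᵀ * (S * B * J) = Bᵀ * ((c⁻¹ / d) • (altTwo F * B))
        rw [Matrix.mul_smul, ← mul_assoc Bᵀ (altTwo F) B, altTwo_congr, smul_smul,
          ← mul_assoc Bᵀ (S * B) J, ← mul_assoc Bᵀ S B, hb,
          Matrix.smul_mul, hJ, ← mul_assoc, Matrix.mul_nonsing_inv _ hS, one_mul, div_mul_cancel₀ _ hd]
      have := congrArg (S⁻¹ * ·) h4
      simp only [← mul_assoc, Matrix.nonsing_inv_mul _ hS, one_mul, Matrix.mul_smul] at this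
      rw [this, hJ, mul_assoc]
    have hgz : conjMat g z = (c⁻¹ / d) • z := by
      rw [hz, ← conjMat_glCoord, ← map_smul]
      congr 1
      show _ = ((c⁻¹ / d) • M).submatrix e e
      congr 1
      rw [conjMat_eq_iff_mul, hab, hM, Matrix.smul_mul, ← Matrix.mul_kronecker_mul, ← Matrix.mul_kronecker_mul,
        mul_one, one_mul, hBJ, Matrix.kronecker_smul]
    intro x hx
    have hle' : A ≤ A.comap (conjMat g : Matrix (Fin m ⊕ Fin m) (Fin m ⊕ Fin m) F →ₐ[F] _) := by
      refine Algebra.adjoin_le ?_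
      rintro _ rfl
      show conjMat g z ∈ A
      rw [hgz]
      exact Subalgebra.smul_mem _ hzA _
    exact hle' hx
  exact inSpClass_of_centre_cases hm hH
    (D.centre_cases H (hH.trans spGL_le_sim) hirr A hconjA hadjA ⟨z, hzc, hns⟩)

/-- A symplectic factor and a symmetric one. -/
lemma inSpClass_of_oriented (hm : 1 ≤ m) (h2 : (2 : F) ≠ 0) (hn : 2 ≤ n₂) (hG : IsUnit G.det)
    (hS : IsUnit S.det) (hGskew : Gᵀ = -G) (hSsymm : Sᵀ = S)
    (hpull : (sympData m F).pull e P = G ⊗ₖ S) (hH : H ≤ Cfsg.spGL m F) (hirr : Irred H)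
    (hle : H ≤ tensorProductSubgroup n₁ n₂ e P) : InSpClass H := by
  rcases Nat.lt_or_ge n₂ 3 with h | h
  · obtain rfl : n₂ = 2 := by omega
    exact inSpClass_of_symmetric_two P e hm h2 hG hS hSsymm hpull hH hirr hle
  · refine ⟨_, Or.inr (Or.inr (Or.inr (Or.inr (Or.inr (Or.inr (Or.inr (Or.inr (Or.inr (Or.inl
      ⟨n₁, n₂, e, P, sesqForm (RingHom.id F) G, sesqForm (RingHom.id F) S, odd_card_iff.2 h2, h,
        isSymplecticForm_sesqForm hGskew (diag_zero_of_skew h2 hGskew) hG,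
        isSymmetricForm_sesqForm hSsymm hS, ⟨1, one_ne_zero, fun x y => ?_⟩, rfl⟩))))))))), hle⟩
    rw [gramMatrix_sesqForm, gramMatrix_sesqForm, one_mul, formOfGram_id, ← hpull]
    exact ((sympData m F).form_pull e P x y)

end

/-- A tensor decomposition fixed by an irreducible group of symplectic isometries puts it in a class. -/
theorem inSpClass_of_tensor (hm : 1 ≤ m) (hH : H ≤ Cfsg.spGL m F) (hirr : Irred H) {a k : ℕ}
    (ha : 2 ≤ a) (hk : 2 ≤ k) (e : (Fin m ⊕ Fin m) ≃ Fin a × Fin k) (P : GL (Fin m ⊕ Fin m) F)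
    (Θ : Matrix (Fin a) (Fin a) F →ₐ[F] Matrix (Fin m ⊕ Fin m) (Fin m ⊕ Fin m) F)
    (hΘ : ∀ x, Θ x = conjMat P ((x ⊗ₖ (1 : Matrix (Fin k) (Fin k) F)).submatrix e e))
    (hadj : ∀ x, ∃ y, (sympData m F).adj (Θ x) = Θ y)
    (hle : H ≤ tensorProductSubgroup a k e P) : InSpClass H := by
  haveI : Nonempty (Fin m ⊕ Fin m) := ⟨Sum.inl ⟨0, hm⟩⟩
  haveI : NeZero a := ⟨by omega⟩
  haveI : NeZero k := ⟨by omega⟩
  obtain ⟨G, S, hG, hS, hpull⟩ := (sympData m F).exists_gram_tensor Θ e P hΘ hadj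
  have hswap : (sympData m F).pull (e.trans (Equiv.prodComm _ _)) P = S ⊗ₖ G := by
    ext ⟨p, q⟩ ⟨p', q'⟩
    have h1 : (sympData m F).pull (e.trans (Equiv.prodComm _ _)) P (p, q) (p', q') =
        (sympData m F).pull e P (q, p) (q', p') := rfl
    rw [h1, hpull]
    simp [mul_comm]
  have hle' := hle.trans (tensorProduct_swap e P)
  have hskew := sympData_pull_skew e P
  rw [hpull, ← Matrix.kroneckerMap_transpose] at hskew
  obtain ⟨c, hc0, hGc, hSc⟩ := exists_smul_of_kronecker_eq (C := G) (D := -S) hG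
    (by
      rw [Matrix.det_neg]
      exact ((isUnit_one.neg).pow _).mul hS)
    (hskew.trans (by ext ⟨p, q⟩ ⟨p', q'⟩; simp))
  have hcc : c * c = 1 := by
    have h1 : G = (c * c) • G := by
      conv_lhs => rw [← Matrix.transpose_transpose G, hGc, Matrix.transpose_smul, hGc, smul_smul]
    have hG0 : G ≠ 0 := fun h => by rw [h, Matrix.det_zero] at hG; exact not_isUnit_zero hG
    exact smul_left_injective F hG0 (h1.symm.trans (one_smul F G).symm)
  by_cases h2 : (2 : F) = 0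
  · have hneg : ∀ x : F, -x = x := fun x => by rw [neg_eq_iff_add_eq_zero, ← two_mul, h2, zero_mul]
    have hc1 : c = 1 := by
      rcases mul_self_eq_one_iff.1 hcc with h | h
      · exact h
      · rw [h, hneg]
    subst hc1
    rw [one_smul] at hGc
    rw [inv_one, one_smul] at hSc
    have hSsymm : Sᵀ = S := hSc.trans (Matrix.ext fun p q => hneg _)
    by_cases hGd : ∃ i, G i i ≠ 0
    · obtain ⟨i, hi⟩ := hGd
      exact absurd hirr (not_irred_of_nonalternating e P hm h2 ha hG hS hGc hpull hH hle hi)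
    by_cases hSd : ∃ i, S i i ≠ 0
    · obtain ⟨i, hi⟩ := hSd
      exact absurd hirr (not_irred_of_nonalternating _ P hm h2 hk hS hG hSsymm hswap hH hle' hi)
    push Not at hGd hSd
    exact inSpClass_of_alternating e P hm h2 hG hS hGc hSsymm hGd hSd hpull hH hle
  · rcases mul_self_eq_one_iff.1 hcc with rfl | rfl
    · rw [one_smul] at hGc
      rw [inv_one, one_smul] at hSc
      exact inSpClass_of_oriented _ P hm h2 ha hS hG hSc hGc hswap hH hirr hle'
    · rw [neg_one_smul] at hGc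
      rw [inv_neg, inv_one, neg_one_smul, neg_neg] at hSc
      exact inSpClass_of_oriented e P hm h2 hk hG hS hGc hSc hpull hH hirr hle

end Cfsg.Agent.Aschbacher
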