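/-
Tensor power decompositions of the symplectic form.
-/
import Mathlib
import Cfsg.Agent.Aschbacher.Sp.Tensor

set_option autoImplicit false
set_option linter.style.haveILetI false

namespace Cfsg.Agent.Aschbacher

open Matrix
open Cfsg.Geo

variable {F : Type*} [Field F] [Fintype F] {m : ℕ} {H : Subgroup (GL (Fin m ⊕ Fin m) F)}

/-- A tensor power decomposition fixed by an irreducible group of symplectic isometries puts it in a
class. -/
theorem inSpClass_of_power (hm : 1 ≤ m) (hH : H ≤ Cfsg.spGL m F) (hirr : Irred H) {t k : ℕ}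
    (ht : 2 ≤ t) (hk : 2 ≤ k) (h32 : ¬ (Fintype.card F = 3 ∧ k = 2))
    (e : (Fin m ⊕ Fin m) ≃ (Fin t → Fin k)) (P : GL (Fin m ⊕ Fin m) F)
    (Φ : Fin t → (Matrix (Fin k) (Fin k) F →ₐ[F] Matrix (Fin m ⊕ Fin m) (Fin m ⊕ Fin m) F))
    (hΦ : ∀ i x, Φ i x = conjMat P ((slotHom i x).submatrix e e))
    (hadj : ∀ x, ∃ y, ∀ i, (sympData m F).adj (Φ i x) = Φ i y)
    (hle : H ≤ tensorWreathSubgroup k t e P) : InSpClass H := by
  classical
  haveI : Nonempty (Fin m ⊕ Fin m) := ⟨Sum.inl ⟨0, hm⟩⟩
  haveI : NeZero k := ⟨by omega⟩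
  obtain ⟨G, c, hG, hc, hpull⟩ := (sympData m F).exists_gram_power (by omega) Φ e P hΦ hadj
  have hG0 : G ≠ 0 := fun h => by rw [h, Matrix.det_zero] at hG; exact not_isUnit_zero hG
  set i₀ : Fin t := ⟨0, by omega⟩ with hi₀
  -- the symmetry of the factor
  have hskew : pureTensor (fun _ : Fin t => Gᵀ) = (-1 : F) • pureTensor (fun _ : Fin t => G) := by
    have h := sympData_pull_skew e P
    rw [hpull, Matrix.transpose_smul, pureTensor_transpose] at h
    have h1 := congrArg (c⁻¹ • ·) h
    simpa [smul_smul, inv_mul_cancel₀ hc] using h1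
  obtain ⟨α, hα⟩ := exists_smul_of_pureTensor (neg_ne_zero.2 one_ne_zero) (fun _ => hG0) hskew i₀
  have hαt : α ^ t = -1 := by
    rw [hα, pureTensor_smul, Finset.prod_const, Finset.card_univ, Fintype.card_fin] at hskew
    exact smul_left_injective F (pureTensor_ne_zero fun _ => hG0) hskew
  have hαα : α * α = 1 := by
    have h1 : G = (α * α) • G := by
      conv_lhs => rw [← Matrix.transpose_transpose G, hα, Matrix.transpose_smul, hα, smul_smul]
    exact smul_left_injective F hG0 (h1.symm.trans (one_smul F G).symm)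
  -- how the isometries act
  have hact : ∀ g ∈ H, ∃ (σ : Equiv.Perm (Fin t)) (gs : Fin t → GL (Fin k) F) (d : Fin t → F),
      (glCoord e P g : Matrix (Fin t → Fin k) (Fin t → Fin k) F) =
        monTensor σ (fun i => (gs i : Matrix (Fin k) (Fin k) F)) ∧
      ∀ i, (gs i : Matrix (Fin k) (Fin k) F)ᵀ * G * (gs i : Matrix (Fin k) (Fin k) F) = d i • G := by
    intro g hg
    obtain ⟨σ, gs, hgs⟩ := exists_monTensor_of_mem_wreath (hle hg)
    have h := sympData_pull_isometry e P (hH hg)
    rw [hpull, hgs, Matrix.mul_smul, Matrix.smul_mul, monTensor_congr] at h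
    have h1 := congrArg (c⁻¹ • ·) h
    simp only [smul_smul, inv_mul_cancel₀ hc, one_smul] at h1
    choose d hd using fun i => exists_smul_of_pureTensor (Y := fun _ : Fin t => G) one_ne_zero
      (fun _ => hG0) (h1.trans (one_smul F _).symm) (σ i)
    refine ⟨σ, gs, d, hgs, fun i => ?_⟩
    simpa using hd i
  by_cases h2 : (2 : F) = 0
  · have hneg : ∀ x : F, -x = x := fun x => by rw [neg_eq_iff_add_eq_zero, ← two_mul, h2, zero_mul]
    have hα1 : α = 1 := by
      rcases mul_self_eq_one_iff.1 hαα with h | h
      · exact h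
      · rw [h, hneg]
    rw [hα1, one_smul] at hα
    by_cases hdiag : ∃ i, G i i ≠ 0
    · obtain ⟨i, hi⟩ := hdiag
      obtain ⟨E, K, hE, hK, hEK, hproj⟩ := exists_projection h2 hk hα hi
      refine absurd hirr (not_irred_of_invariant e P (pureTensor_ne_zero fun _ : Fin t => hE)
        (pureTensor_ne_zero fun _ : Fin t => hK) ?_ fun g hg => ?_)
      · rw [← map_mul]
        ext f f'
        rw [pureTensor_apply, Matrix.zero_apply]
        refine Finset.prod_eq_zero (Finset.mem_univ i₀) ?_
        rw [Pi.mul_apply, hEK, Matrix.zero_apply]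
      · obtain ⟨σ, gs, d, hgs, hd⟩ := hact g hg
        rw [hgs, ← monTensor_one_left, monTensor_mul, monTensor_mul, monTensor_mul]
        congr 1
        funext i
        simpa using hproj _ _ (hd i)
    · push Not at hdiag
      let Gu : Matrix (Fin k) (Fin k) F := Matrix.of fun a b => if a < b then G a b else 0
      have hGu : Gu + Guᵀ = G := by
        ext a b
        rcases lt_trichotomy a b with h | h | h
        · simp [Gu, h, h.asymm]
        · subst h; simp [Gu, hdiag]
        · have hs : G b a = G a b := congrFun (congrFun hα a) b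
          simp [Gu, h, h.asymm, hs]
      let X : Fin t → Matrix (Fin k) (Fin k) F := Function.update (fun _ => G) i₀ Gu
      have hU : c • pureTensor X + (c • pureTensor X)ᵀ = (sympData m F).pull e P := by
        rw [hpull, Matrix.transpose_smul, pureTensor_transpose, ← smul_add]
        congr 1
        ext f f'
        rw [Matrix.add_apply, pureTensor_apply, pureTensor_apply, pureTensor_apply,
          ← Finset.mul_prod_erase _ _ (Finset.mem_univ i₀), ← Finset.mul_prod_erase _ _ (Finset.mem_univ i₀),
          ← Finset.mul_prod_erase _ _ (Finset.mem_univ i₀)]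
        have hX : ∀ j ∈ Finset.univ.erase i₀, X j = G := fun j hj =>
          Function.update_of_ne (Finset.ne_of_mem_erase hj) _ _
        rw [Finset.prod_congr rfl (fun j hj => by rw [hX j hj]),
          Finset.prod_congr (f := fun j => (X j)ᵀ (f j) (f' j)) rfl (fun j hj => by rw [hX j hj, hα]),
          ← add_mul]
        congr 1
        have hX0 : X i₀ = Gu := Function.update_self _ _ _
        rw [hX0, ← hGu]
        rfl
      obtain ⟨Q, hQ, hQH⟩ := (sympData m F).exists_quad_of_upper sympData_τ h2 e P hU (H := H)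
        (fun g hg => mem_spGL.1 (hH hg)) fun g hg f => by
          obtain ⟨σ, gs, d, hgs, hd⟩ := hact g hg
          obtain ⟨j, hj⟩ : ∃ j : Fin t, j ≠ i₀ := by
            haveI : Nontrivial (Fin t) := Fin.nontrivial_iff_two_le.2 ht
            exact exists_ne i₀
          have hcol : ∀ (Y U : Matrix (Fin t → Fin k) (Fin t → Fin k) F),
              (Y *ᵥ Pi.single f 1) ⬝ᵥ U *ᵥ (Y *ᵥ Pi.single f 1) = (Yᵀ * U * Y) f f := by
            intro Y U
            rw [Matrix.mulVec_single_one, mul_assoc, Matrix.mul_apply']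
            rfl
          rw [hcol, hgs, Matrix.mul_smul, Matrix.smul_mul, monTensor_congr, Matrix.smul_apply,
            Matrix.smul_apply, pureTensor_apply, pureTensor_apply,
            Finset.prod_eq_zero (Finset.mem_univ (σ j)) ?_, Finset.prod_eq_zero (Finset.mem_univ j) ?_]
          · show X j (f j) (f j) = 0
            rw [show X j = G from Function.update_of_ne hj _ _, hdiag]
          · rw [show σ⁻¹ (σ j) = j from σ.symm_apply_apply j]
            rw [show X j = G from Function.update_of_ne hj _ _, hd, Matrix.smul_apply, hdiag, smul_zero]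
      exact inSpClass_of_quad h2 hQ hQH
  · have hα1 : α = -1 := by
      rcases mul_self_eq_one_iff.1 hαα with h | h
      · rw [h, one_pow, eq_neg_iff_add_eq_zero, one_add_one_eq_two] at hαt
        exact absurd hαt h2
      · exact h
    have hodd : Odd t := by
      rcases Nat.even_or_odd t with he | ho
      · rw [hα1, he.neg_one_pow, eq_neg_iff_add_eq_zero, one_add_one_eq_two] at hαt
        exact absurd hαt h2
      · exact ho
    rw [hα1, neg_one_smul] at hα
    refine ⟨_, Or.inr (Or.inr (Or.inr (Or.inr (Or.inr (Or.inr (Or.inr (Or.inr (Or.inr (Or.inr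
      ⟨k, t, e, P, sesqForm (RingHom.id F) G, odd_card_iff.2 h2, hodd, by rcases hodd with ⟨s, rfl⟩; omega,
        h32, isSymplecticForm_sesqForm hα (diag_zero_of_skew h2 hα) hG, ⟨c, hc, fun x y => ?_⟩,
        rfl⟩))))))))), hle⟩
    rw [show (Cfsg.sympForm m F) = (sympData m F).form from rfl, (sympData m F).form_pull e P x y, hpull,
      gramMatrix_sesqForm, Matrix.smul_mulVec, dotProduct_smul, smul_eq_mul]
    congr 1
    simp [dotProduct, Matrix.mulVec, Finset.mul_sum, mul_assoc, pureTensor_apply]
    rfl

end Cfsg.Agent.Aschbacher
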