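/-
Aschbacher's theorem, symplectic case: a subgroup of Sp_2m(q) lies in a member of one of the classes
or is in the residual class.
-/
import Mathlib
import Cfsg.Agent.Aschbacher.Linear
import Cfsg.Agent.Aschbacher.Sp.Power
import Cfsg.Agent.Aschbacher.Sp.Abelian
import Cfsg.Agent.Lib.Classical.GL2
import Cfsg.Agent.S0061

set_option autoImplicit false
set_option linter.style.haveILetI false

namespace Cfsg.Agent.Aschbacher

open Matrix
open Cfsg.Geo
open scoped commutatorElement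

variable {F : Type*} [Field F] [Fintype F]

/-- A perfect subgroup of `GL_2(3)` is trivial. -/
lemma eq_bot_of_perfect_GL2_three (h3 : Fintype.card F = 3) {Q : Subgroup (GL (Fin 2) F)}
    (hperf : ⁅Q, Q⁆ = Q) : Q = ⊥ := by
  classical
  have hdet : ∀ x ∈ Q, Matrix.GeneralLinearGroup.det x = 1 := by
    intro x hx
    have h : Q ≤ (Matrix.GeneralLinearGroup.det : GL (Fin 2) F →* Fˣ).ker := by
      rw [← hperf, Subgroup.commutator_le]
      intro a _ b _
      rw [MonoidHom.mem_ker, map_commutatorElement, commutatorElement_eq_one_iff_mul_comm, mul_comm]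
    exact h hx
  let SL := Matrix.SpecialLinearGroup (Fin 2) F
  have hsolv : Group.IsSolvable SL := by
    refine S0061.result 2 3 3 Nat.prime_two Nat.prime_three ?_
    rw [Cfsg.Agent.Classical.GL2.natCard_SL_two, h3]
    norm_num
  let Q' : Subgroup SL := Q.comap Matrix.SpecialLinearGroup.toGL
  have hQ' : Q'.map Matrix.SpecialLinearGroup.toGL = Q := by
    refine Subgroup.map_comap_eq_self fun x hx => ?_
    exact ⟨⟨(x : Matrix (Fin 2) (Fin 2) F), congrArg Units.val (hdet x hx)⟩, Units.ext rfl⟩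
  have hinj : Function.Injective (Matrix.SpecialLinearGroup.toGL : SL →* GL (Fin 2) F) := fun a b h =>
    Subtype.ext (congrArg Units.val h)
  have hperf' : ⁅Q', Q'⁆ = Q' := by
    apply Subgroup.map_injective hinj
    rw [Subgroup.map_commutator, hQ', hperf]
  obtain ⟨n, hn⟩ := hsolv.solvable
  have hle : ∀ k, Q' ≤ derivedSeries SL k := by
    intro k
    induction k with
    | zero => simp
    | succ k ih =>
      rw [derivedSeries_succ, ← hperf']
      exact Subgroup.commutator_mono ih ih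
  have h0 : Q' = ⊥ := le_bot_iff.1 (hn ▸ hle n)
  rw [← hQ', h0, Subgroup.map_bot]

variable {m : ℕ} {H N : Subgroup (GL (Fin m ⊕ Fin m) F)}

/-- A normal subgroup that is not scalar spans all matrices, or `H` is in a class. -/
theorem adjoin_eq_top_or_inSpClass (hm : 1 ≤ m) (hH : H ≤ Cfsg.spGL m F) (hirr : Irred H)
    (hN : N ≤ (sympData m F).sim) (hnorm : ∀ g ∈ H, ∀ x ∈ N, g * x * g⁻¹ ∈ N)
    (hns : ¬ N ≤ scalars (Fin m ⊕ Fin m) F) :
    InSpClass H ∨ Algebra.adjoin F (matrixSet N) = ⊤ := by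
  classical
  haveI : Nonempty (Fin m ⊕ Fin m) := ⟨Sum.inl ⟨0, hm⟩⟩
  set A := Algebra.adjoin F (matrixSet N) with hA
  have hconj : ∀ g ∈ H, ∀ x ∈ A, conjMat g x ∈ A := fun g hg x hx => conjMat_mem_adjoin (hnorm g hg) hx
  have hadj : ∀ x ∈ A, (sympData m F).adj x ∈ A := fun x hx => (sympData m F).adj_mem_adjoin hN hx
  by_cases hz : ∃ z₀ ∈ subCentre A, ∀ c : F, z₀ ≠ c • 1
  · exact Or.inl (inSpClass_of_centre_cases hm hH
      ((sympData m F).centre_cases H (hH.trans spGL_le_sim) hirr A hconj hadj hz))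
  push Not at hz
  obtain ⟨a, ha, ⟨φ⟩⟩ := exists_algEquiv_of_scalar_centre A hirr hconj hz
  let Θ : Matrix (Fin a) (Fin a) F →ₐ[F] Matrix (Fin m ⊕ Fin m) (Fin m ⊕ Fin m) F :=
    A.val.comp φ.symm.toAlgHom
  obtain ⟨k, e, P, hP⟩ := exists_kronecker_basis Θ
  have hcard : Fintype.card (Fin m ⊕ Fin m) = a * k := by simpa using Fintype.card_congr e
  have hle : H ≤ tensorProductSubgroup a k e P := by
    intro g hg
    refine mem_tensorProduct Θ e P hP g fun x =>
      ⟨φ ⟨conjMat g (Θ x), hconj g hg _ (φ.symm x).2⟩, ?_⟩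
    simp [Θ]
  rcases Nat.lt_or_ge a 2 with h1 | h1
  · obtain rfl : a = 1 := by omega
    exfalso
    apply hns
    intro x hx
    have hscal : φ ⟨(x : Matrix _ _ F), Algebra.subset_adjoin (mem_matrixSet hx)⟩ =
        algebraMap F _ (φ ⟨(x : Matrix _ _ F), Algebra.subset_adjoin (mem_matrixSet hx)⟩ 0 0) := by
      ext i j
      rw [Matrix.algebraMap_matrix_apply, if_pos (Subsingleton.elim i j), Subsingleton.elim i 0,
        Subsingleton.elim j 0]
      rfl
    have h2 := congrArg (fun y => ((φ.symm y : A) : Matrix (Fin m ⊕ Fin m) (Fin m ⊕ Fin m) F)) hscal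
    simp only [AlgEquiv.symm_apply_apply, AlgEquiv.commutes] at h2
    exact mem_scalars_of_eq_smul x _ (h2.trans (Algebra.algebraMap_eq_smul_one _))
  rcases Nat.lt_trichotomy k 1 with hk | hk | hk
  · have : k = 0 := by omega
    subst this
    rw [mul_zero] at hcard
    exact absurd hcard Fintype.card_ne_zero
  · right
    subst hk
    apply Algebra.toSubmodule_eq_top.1
    apply Submodule.eq_top_of_finrank_eq
    rw [Module.finrank_matrix, Module.finrank_self, mul_one]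
    show Module.finrank F A = _
    rw [φ.toLinearEquiv.finrank_eq, Module.finrank_matrix, Fintype.card_fin, Module.finrank_self,
      mul_one, hcard, mul_one]
  · refine Or.inl (inSpClass_of_tensor hm hH hirr h1 hk e P Θ hP (fun x => ?_) hle)
    exact ⟨φ ⟨_, hadj _ (φ.symm x).2⟩, by simp [Θ]⟩

/-- Several simple factors in the socle. -/
theorem inSpClass_of_factors (hm : 1 ≤ m) (hH : H ≤ Cfsg.spGL m F) (hirr : Irred H)
    (hN : N ≤ (sympData m F).sim) {t k : ℕ} [NeZero t]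
    {Φ : Fin t → (Matrix (Fin k) (Fin k) F →ₐ[F] Matrix (Fin m ⊕ Fin m) (Fin m ⊕ Fin m) F)}
    {H' : Subgroup (GL (Fin m ⊕ Fin m) F)} (hHH' : H ≤ H') (hH' : H' ≤ (sympData m F).sim)
    (hd : FactorData H' N t k Φ) : InSpClass H := by
  classical
  haveI : Nonempty (Fin m ⊕ Fin m) := ⟨Sum.inl ⟨0, hm⟩⟩
  obtain ⟨e, P, hP⟩ := exists_tensor_basis Φ hd.commute hd.gen
  obtain ⟨Q, hQN, hQperf, hQns, hQrange⟩ := hd.spanned 0
  have hadj : ∀ x, ∃ y, ∀ i, (sympData m F).adj (Φ i x) = Φ i y := by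
    intro x
    have h1 : (sympData m F).adj (Φ 0 x) ∈ Algebra.adjoin F (matrixSet Q) := by
      refine (sympData m F).adj_mem_adjoin (hQN.trans hN) ?_
      show Φ 0 x ∈ (Algebra.adjoin F (matrixSet Q) : Set (Matrix (Fin m ⊕ Fin m) (Fin m ⊕ Fin m) F))
      rw [← hQrange]
      exact ⟨x, rfl⟩
    obtain ⟨y, hy⟩ := (hQrange.symm ▸ h1 : (sympData m F).adj (Φ 0 x) ∈ Set.range (Φ 0))
    refine ⟨y, fun i => ?_⟩
    obtain ⟨h, hh, hh'⟩ := hd.conj_zero i
    rw [hh', hh', (sympData m F).adj_conjMat (hH' hh), hy]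
  have h32 : ¬ (Fintype.card F = 3 ∧ k = 2) := by
    rintro ⟨h3, rfl⟩
    apply hQns
    have hmem : ∀ q : Q, ∃ y, Φ 0 y = ((q : GL (Fin m ⊕ Fin m) F) : Matrix _ _ F) := fun q => by
      have : ((q : GL (Fin m ⊕ Fin m) F) : Matrix _ _ F) ∈
          (Algebra.adjoin F (matrixSet Q) : Set (Matrix (Fin m ⊕ Fin m) (Fin m ⊕ Fin m) F)) :=
        Algebra.subset_adjoin (mem_matrixSet q.2)
      rwa [← hQrange] at this
    choose y hy using hmem
    have hinj := algHom_matrix_injective (Φ 0)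
    let ψ : Q →* GL (Fin 2) F := MonoidHom.toHomUnits
      { toFun := y
        map_one' := hinj (by rw [hy, map_one]; rfl)
        map_mul' := fun a b => hinj (by rw [hy, map_mul, hy, hy]; rfl) }
    have hψinj : Function.Injective ψ := fun a b h => by
      have h1 : y a = y b := congrArg Units.val h
      have h2 := congrArg (Φ 0) h1
      rw [hy, hy] at h2
      exact Subtype.ext (Units.ext h2)
    have hperf : ⁅ψ.range, ψ.range⁆ = ψ.range := by
      have hQ2 : ⁅(⊤ : Subgroup Q), (⊤ : Subgroup Q)⁆ = (⊤ : Subgroup Q) := by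
        apply Subgroup.map_injective Q.subtype_injective
        rw [Subgroup.map_commutator, ← MonoidHom.range_eq_map, Q.range_subtype, hQperf]
      rw [MonoidHom.range_eq_map, ← Subgroup.map_commutator, hQ2]
    have hbot := eq_bot_of_perfect_GL2_three h3 hperf
    intro q hq
    have h1 : ψ ⟨q, hq⟩ = 1 := by
      have : ψ ⟨q, hq⟩ ∈ ψ.range := ⟨_, rfl⟩
      rwa [hbot, Subgroup.mem_bot] at this
    have h2 : (⟨q, hq⟩ : Q) = 1 := hψinj (h1.trans (map_one ψ).symm)
    rw [show q = 1 from congrArg Subtype.val h2]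
    exact one_mem _
  refine inSpClass_of_power hm hH hirr hd.two_le hd.two_le_dim h32 e P Φ hP hadj ?_
  intro g hg
  obtain ⟨σ, hσ⟩ := hd.perm g (hHH' hg)
  exact mem_tensorWreath (Nat.pos_of_neZero t) Φ hd.gen e P hP g σ hσ

/-- A quadratic form fixed by an absolutely irreducible normal subgroup. -/
theorem inSpClass_of_fixed_quad (hm : 1 ≤ m) (hH : H ≤ Cfsg.spGL m F)
    {P : Subgroup (GL (Fin m ⊕ Fin m) F)} (habs : ActsAbsolutelyIrreducibly (matrixSet P))
    (hPH : P ≤ H) (hnorm : ∀ g ∈ H, ∀ x ∈ P, g * x * g⁻¹ ∈ P)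
    {Q : (Fin m ⊕ Fin m → F) → F} (hQ : IsNondegenerateQuadraticForm Q)
    (hfix : FixesQuadForm (matrixSet P) Q) : InSpClass H := by
  classical
  haveI : Nonempty (Fin m ⊕ Fin m) := ⟨Sum.inl ⟨0, hm⟩⟩
  set D := sympData m F with hD
  obtain ⟨S, hS'⟩ := exists_sesqForm_of_bilinear hQ.polar_bilinear
  have hfixS : Fixes (RingHom.id F) P S := by
    rw [← fixesForm_iff, ← hS']
    intro s hs u v
    simp only [QuadraticMap.polar, ← Matrix.mulVec_add]
    rw [hfix s hs, hfix s hs, hfix s hs]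
  have hfixT : Fixes (RingHom.id F) P D.T :=
    (fixesForm_iff _ P D.T).1 (by rintro _ ⟨s, hs, rfl⟩ u v; exact mem_spGL.1 (hH (hPH hs)) u v)
  obtain ⟨c, hc⟩ := exists_smul_of_fixes (RingHom.id F) habs D.isUnit hfixT hfixS
  have hpolar : ∀ u v, QuadraticMap.polar Q u v = c * D.form u v := by
    intro u v
    rw [hS', hc, sesqForm_smul]
    rfl
  obtain ⟨v₀, hv₀⟩ := exists_ne (0 : Fin m ⊕ Fin m → F)
  have hc0 : c ≠ 0 := by
    rintro rfl
    obtain ⟨x, hx⟩ := (hQ.nondegenerate v₀ hv₀).1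
    rw [hpolar, zero_mul] at hx
    exact hx rfl
  by_cases h2 : (2 : F) = 0
  swap
  · exfalso
    obtain ⟨x, hx⟩ := (D.nondegenerate v₀ hv₀).1
    have h1 : c * D.form x v₀ = c * D.form v₀ x := by rw [← hpolar, ← hpolar, QuadraticMap.polar_comm]
    have h3 : D.form x v₀ = -D.form x v₀ := by
      conv_lhs => rw [mul_left_cancel₀ hc0 h1]
      exact sympData_swap x v₀
    rw [eq_neg_iff_add_eq_zero, ← two_mul] at h3
    exact hx ((mul_eq_zero.1 h3).resolve_left h2)
  set Q' : (Fin m ⊕ Fin m → F) → F := fun v => c⁻¹ * Q v with hQ'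
  have hpolar' : ∀ u v, QuadraticMap.polar Q' u v = D.form u v := by
    intro u v
    have h1 := hpolar u v
    simp only [QuadraticMap.polar] at h1
    simp only [QuadraticMap.polar, hQ', ← mul_sub, h1]
    rw [← mul_assoc, inv_mul_cancel₀ hc0, one_mul]
  have hsmul : ∀ (a : F) v, Q' (a • v) = a ^ 2 * Q' v := fun a v => by
    simp only [hQ', hQ.smul]; ring
  refine inSpClass_of_quad h2 (D.isPolarised sympData_τ hsmul hpolar') fun g hg => ⟨1, ?_⟩
  set Δ := fun v => Q' ((g : Matrix _ _ F) *ᵥ v) - Q' v with hΔ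
  have hadd : ∀ u v, Δ (u + v) = Δ u + Δ v := by
    intro u v
    have h1 := hpolar' ((g : Matrix _ _ F) *ᵥ u) ((g : Matrix _ _ F) *ᵥ v)
    have h3 := hpolar' u v
    rw [mem_spGL.1 (hH hg), ← h3] at h1
    simp only [QuadraticMap.polar, ← Matrix.mulVec_add] at h1
    simp only [hΔ]
    linear_combination h1
  have hΔsmul : ∀ (a : F) v, Δ (a • v) = a ^ 2 * Δ v := fun a v => by
    simp only [hΔ, Matrix.mulVec_smul, hsmul]; ring
  let W : Submodule F (Fin m ⊕ Fin m → F) :=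
    { carrier := {v | Δ v = 0}
      add_mem' := fun {u v} (hu : Δ u = 0) (hv : Δ v = 0) => by
        show Δ (u + v) = 0
        rw [hadd, hu, hv, add_zero]
      zero_mem' := by
        show Δ 0 = 0
        have := hΔsmul 0 0
        simpa using this
      smul_mem' := fun a v (hv : Δ v = 0) => by
        show Δ (a • v) = 0
        rw [hΔsmul, hv, mul_zero] }
  have hW : ∀ s ∈ P, ∀ v ∈ W, (s : Matrix _ _ F) *ᵥ v ∈ W := by
    intro s hs v hv
    show Δ _ = 0
    have h1 : (g : Matrix (Fin m ⊕ Fin m) (Fin m ⊕ Fin m) F) *ᵥ ((s : Matrix _ _ F) *ᵥ v) =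
        ((g * s * g⁻¹ : GL (Fin m ⊕ Fin m) F) : Matrix (Fin m ⊕ Fin m) (Fin m ⊕ Fin m) F) *ᵥ
          ((g : Matrix (Fin m ⊕ Fin m) (Fin m ⊕ Fin m) F) *ᵥ v) := by
      rw [Matrix.mulVec_mulVec, Matrix.mulVec_mulVec, ← Units.val_mul, ← Units.val_mul]
      congr 2
      group
    simp only [hΔ, hQ', h1, hfix _ (mem_matrixSet (hnorm g hg s hs)), hfix _ (mem_matrixSet hs)]
    exact hv
  rcases irred_iff.1 habs.1 W hW with h | h
  · exfalso
    haveI : Nontrivial (Fin m ⊕ Fin m) := ⟨⟨Sum.inl ⟨0, hm⟩, Sum.inr ⟨0, hm⟩, by simp⟩⟩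
    obtain ⟨i, j, hij⟩ := exists_pair_ne (Fin m ⊕ Fin m)
    set u : Fin m ⊕ Fin m → F := Pi.single i 1 with hu
    set v : Fin m ⊕ Fin m → F := Pi.single j 1 with hv
    by_cases hu0 : Δ u = 0
    · have : u ∈ W := hu0
      rw [h, Submodule.mem_bot] at this
      exact (one_ne_zero : (1 : F) ≠ 0) (by simpa [hu] using congrFun this i)
    · obtain ⟨a, ha⟩ := exists_sq_eq h2 (Δ v / Δ u)
      have : v + a • u ∈ W := by
        show Δ _ = 0
        rw [hadd, hΔsmul, ha, div_mul_cancel₀ _ hu0, ← two_mul, h2, zero_mul]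
      rw [h, Submodule.mem_bot] at this
      exact (one_ne_zero : (1 : F) ≠ 0) (by simpa [hu, hv, hij.symm] using congrFun this j)
  · intro v
    have : v ∈ W := h ▸ Submodule.mem_top
    rw [Units.val_one, one_mul]
    exact sub_eq_zero.1 this

/-- Aschbacher's theorem for Sp_2m(q). -/
theorem symplectic_class_or_residual (hm : 1 ≤ m) (hH : H ≤ Cfsg.spGL m F) :
    InSpClass H ∨ InSymplecticResidualClass H := by
  classical
  haveI : Nonempty (Fin m ⊕ Fin m) := ⟨Sum.inl ⟨0, hm⟩⟩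
  set D := sympData m F with hD
  set ι := Fin m ⊕ Fin m
  set Z := scalars ι F with hZ
  set H' := H ⊔ Z with hH'
  have hH'sim : H' ≤ D.sim := sup_le (hH.trans spGL_le_sim) (scalars_le_sim D)
  by_cases hirr : Irred H
  swap
  · exact Or.inl (inSpClass_of_reducible hm hH hirr)
  have hirr' : Irred H' := hirr.mono le_sup_left
  have hH'Z : ¬ H' ≤ Z := by
    intro hle
    set i₀ : ι := Sum.inl ⟨0, hm⟩
    let W : Submodule F (ι → F) := Submodule.span F {Pi.single i₀ 1}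
    have hne : (Pi.single i₀ (1 : F) : ι → F) ≠ 0 := fun h =>
      (one_ne_zero : (1 : F) ≠ 0) (by simpa using congrFun h i₀)
    have hW : W = ⊤ := hirr'.eq_top (fun g hg v hv => by
      obtain ⟨c, hc⟩ := (Cfsg.Geo.mem_scalars_iff g).1 (hle hg)
      rw [hc, smul_mulVec']
      exact W.smul_mem _ hv) (Submodule.mem_span_singleton_self _) hne
    have h1 : Module.finrank F W = 1 := finrank_span_singleton hne
    rw [hW, finrank_top, Module.finrank_fintype_fun_eq_card, Fintype.card_sum, Fintype.card_fin] at h1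
    omega
  obtain ⟨N, ⟨hZN, hNZ, hNH, hnorm⟩, hNmin⟩ := exists_minimal_subgroup
    {N : Subgroup (GL ι F) | Z ≤ N ∧ ¬ N ≤ Z ∧ N ≤ H' ∧ ∀ g ∈ H', ∀ x ∈ N, g * x * g⁻¹ ∈ N}
    ⟨H', le_sup_right, hH'Z, le_rfl, fun g hg x hx => mul_mem (mul_mem hg hx) (inv_mem hg)⟩
  have hmin : ∀ M : Subgroup (GL ι F), Z ≤ M → M ≤ N →
      (∀ g ∈ H', ∀ x ∈ M, g * x * g⁻¹ ∈ M) → M = Z ∨ M = N := by
    intro M hZM hMN hM
    by_cases h : M ≤ Z
    · exact Or.inl (le_antisymm h hZM)
    · exact Or.inr (hNmin M ⟨hZM, h, hMN.trans hNH, hM⟩ hMN)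
  have hminH : ∀ M : Subgroup (GL ι F), Z ≤ M → M ≤ N →
      (∀ g ∈ H, ∀ x ∈ M, g * x * g⁻¹ ∈ M) → M = Z ∨ M = N := by
    intro M hZM hMN hM
    refine hmin M hZM hMN fun g hg x hx => ?_
    obtain ⟨h, hh, z, hz, rfl⟩ := Subgroup.mem_sup_of_normal_right.1 hg
    rw [show h * z * x * (h * z)⁻¹ = h * (z * x * z⁻¹) * h⁻¹ by group, ← scalars_comm hz x,
      mul_inv_cancel_right]
    exact hM h hh x hx
  rcases adjoin_eq_top_or_inSpClass hm hH hirr (hNH.trans hH'sim)
    (fun g hg => hnorm g (Subgroup.mem_sup_left hg)) hNZ with h | htop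
  · exact Or.inl h
  by_cases hab : ⁅N, N⁆ ≤ Z
  · refine Or.inl (inSpClass_of_abelian hm hH hZN hNZ hNH
      (fun g hg => hnorm g (Subgroup.mem_sup_left hg)) htop (fun x hx y hy => ?_) hminH)
    rw [← commutatorElement_def]
    exact hab (Subgroup.commutator_mem_commutator hx hy)
  obtain ⟨T, ⟨hZT, hTZ, hTN, hTnorm⟩, hTmin'⟩ := exists_minimal_subgroup
    {T : Subgroup (GL ι F) | Z ≤ T ∧ ¬ T ≤ Z ∧ T ≤ N ∧ ∀ g ∈ N, ∀ x ∈ T, g * x * g⁻¹ ∈ T}
    ⟨N, hZN, hNZ, le_rfl, fun g hg x hx => mul_mem (mul_mem hg hx) (inv_mem hg)⟩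
  have hTmin : ∀ M : Subgroup (GL ι F), Z ≤ M → M ≤ T →
      (∀ g ∈ N, ∀ x ∈ M, g * x * g⁻¹ ∈ M) → M = Z ∨ M = T := by
    intro M hZM hMT hM
    by_cases h : M ≤ Z
    · exact Or.inl (le_antisymm h hZM)
    · exact Or.inr (hTmin' M ⟨hZM, h, hMT.trans hTN, hM⟩ hMT)
  rcases lt_or_eq_of_le hTN with hlt | rfl
  · obtain ⟨t, k, _, Φ, hd⟩ :=
      exists_factorData htop hnorm hmin hab hZT (fun h => hTZ h.le) hlt hTnorm hTmin
    exact Or.inl (inSpClass_of_factors hm hH hirr (hNH.trans hH'sim) le_sup_left hH'sim hd)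
  -- the almost simple case
  set P := ⁅T, T⁆ with hP
  have hPle : P ≤ T := by
    rw [hP, Subgroup.commutator_le]
    exact fun a ha b hb => mul_mem (mul_mem (mul_mem ha hb) (inv_mem ha)) (inv_mem hb)
  have hPconj : ∀ g ∈ H', ∀ x ∈ P, g * x * g⁻¹ ∈ P := fun g hg => conj_mem_commutator (hnorm g hg)
  have hPT : P ⊔ Z = T := by
    rcases hmin (P ⊔ Z) le_sup_right (sup_le hPle hZT) (fun g hg x hx => by
      obtain ⟨p, hp, z, hz, rfl⟩ := Subgroup.mem_sup_of_normal_right.1 hx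
      rw [show g * (p * z) * g⁻¹ = (g * p * g⁻¹) * (g * z * g⁻¹) by group]
      exact Subgroup.mul_mem _ (Subgroup.mem_sup_left (hPconj g hg p hp))
        (Subgroup.mem_sup_right (Subgroup.Normal.conj_mem inferInstance z hz g))) with h | h
    · exact absurd (le_sup_left.trans h.le) hab
    · exact h
  have hPtop : Algebra.adjoin F (matrixSet P) = ⊤ := by rw [← htop, ← hPT, adjoin_sup_scalars]
  have habs := absIrred_of_adjoin_eq_top hPtop
  have hperf : ⁅P, P⁆ = P := by rw [← commutator_sup_scalars P, hPT, hP]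
  have hPH : P ≤ H := by
    rw [hP]
    refine le_trans (Subgroup.commutator_mono hNH hNH) ?_
    rw [hH', commutator_sup_scalars, Subgroup.commutator_le]
    exact fun a ha b hb => mul_mem (mul_mem (mul_mem ha hb) (inv_mem ha)) (inv_mem hb)
  have hnorm' : ∀ g ∈ H, ∀ x ∈ P, g * x * g⁻¹ ∈ P := fun g hg => hPconj g (Subgroup.mem_sup_left hg)
  have hfixT : Fixes D.τ.toRingHom P D.T :=
    (fixesForm_iff _ P D.T).1 (by rintro _ ⟨s, hs, rfl⟩ u v; exact mem_spGL.1 (hH (hPH hs)) u v)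
  by_cases hreal : ∃ F₀ : Subfield F, F₀ ≠ ⊤ ∧ RealisableOver F₀ (matrixSet P)
  · obtain ⟨F₀, hne, hr⟩ := hreal
    obtain ⟨F₁, r, Q, ζ, hr', hcard, hζ, hrat, hle⟩ := D.exists_subfield_member habs hnorm' hfixT hne hr
    exact Or.inl ⟨_, Or.inr (Or.inr (Or.inr (Or.inr (Or.inl ⟨F₁, r, Q, ζ, hr', hcard, hζ, hrat, rfl⟩)))), hle⟩
  by_cases hquad : ∃ Q, IsNondegenerateQuadraticForm Q ∧ FixesQuadForm (matrixSet P) Q
  · obtain ⟨Q, hQ, hfix⟩ := hquad
    exact Or.inl (inSpClass_of_fixed_quad hm hH habs hPH hnorm' hQ hfix)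
  have hunit : ¬ ∃ (σ : F ≃+* F) (f : (ι → F) → (ι → F) → F),
      IsUnitaryForm σ f ∧ FixesForm (matrixSet P) f := by
    rintro ⟨σ, f, hf, hfix⟩
    obtain ⟨S, rfl⟩ := exists_sesqForm_of_unitary hf
    have hS := isUnit_det_of_nondegenerate _ hf.nondegenerate
    obtain ⟨a₀, ha₀⟩ : ∃ a, σ a ≠ a := by
      by_contra hall
      push Not at hall
      exact hf.ne_refl (RingEquiv.ext hall)
    exact hreal (exists_realisable_of_two_forms σ.toRingHom hf.involutive ha₀ habs D.isUnit hS hfixT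
      ((fixesForm_iff _ P S).1 hfix))
  right
  haveI hnormZ : (Z.subgroupOf P).Normal := by
    refine ⟨fun a ha b => ?_⟩
    show (b : GL ι F) * a * (b : GL ι F)⁻¹ ∈ Z
    exact Subgroup.Normal.conj_mem inferInstance _ ha _
  have hsimple : IsSimpleGroup (P ⧸ Z.subgroupOf P) :=
    isSimpleGroup_core (fun z hz => scalars_comm hz) hZT hPle hab hPT hP hTmin
  have hnonab : ¬ IsMulCommutative (P ⧸ Z.subgroupOf P) :=
    not_isMulCommutative_of_perfect hperf (fun h => hab (hP ▸ h))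
  refine ⟨P, ⟨hPH, hnorm', hperf, hsimple, hnonab, ?_, habs, fun F₀ h0 hr => hreal ⟨F₀, h0, hr⟩⟩,
    hquad, hunit⟩
  intro g _ hgP
  obtain ⟨c, hc⟩ := habs.2 (g : Matrix ι ι F) (by
    rintro _ ⟨p, hp, rfl⟩
    exact congrArg Units.val (commute_commutator_of_scalar hgP p (hperf.symm ▸ hp)))
  exact mem_scalars_of_eq_smul g c hc

end Cfsg.Agent.Aschbacher
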